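import Mathlib
import Cfsg.Agent.Cores.Fitting

/-!
# Small tools on actions of finite groups
-/

set_option autoImplicit false
set_option linter.unusedSectionVars false
set_option linter.style.haveILetI false

namespace Cfsg.Agent.H38.KSolv

open scoped Classical
open MulAction

universe u v

/-- If `r^(j+1)` does not divide the number of points and `r^(c+1)` no point stabiliser, then
`r^(j+c+1)` does not divide the order. -/
theorem pow_not_dvd_step {U : Type*} [Group U] [Finite U] {Ω : Type*} [Finite Ω] [MulAction U Ω]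
    {r : ℕ} [hr : Fact r.Prime] {j c : ℕ} (hj : ¬ r ^ (j + 1) ∣ Nat.card Ω)
    (hc : ∀ ω : Ω, ¬ r ^ (c + 1) ∣ Nat.card (stabilizer U ω)) :
    ¬ r ^ (j + c + 1) ∣ Nat.card U := by
  intro hd
  obtain ⟨Q, hQ⟩ := Sylow.exists_subgroup_card_pow_prime r hd
  have hQp : IsPGroup r Q := IsPGroup.of_card hQ
  haveI := Fintype.ofFinite (orbitRel.Quotient Q Ω)
  have hsum : Nat.card Ω = ∑ o : orbitRel.Quotient Q Ω, Nat.card o.orbit := by
    rw [Nat.card_congr (selfEquivSigmaOrbits' Q Ω), Nat.card_sigma]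
  obtain ⟨ω, i, hi, hij⟩ : ∃ ω : Ω, ∃ i, Nat.card (orbit Q ω) = r ^ i ∧ i ≤ j := by
    by_contra hcon
    push Not at hcon
    refine hj (hsum ▸ Finset.dvd_sum fun o _ => ?_)
    induction o using Quotient.inductionOn' with
    | h ω =>
      obtain ⟨i, hi⟩ := hQp.card_orbit ω
      rw [orbitRel.Quotient.orbit_mk, hi]
      exact pow_dvd_pow r (hcon ω i hi)
  refine hc ω ?_
  have h1 : r ^ i * Nat.card (stabilizer Q ω) = r ^ (j + c + 1) := by
    rw [← hi, ← hQ, ← Nat.card_prod]
    exact Nat.card_congr (orbitProdStabilizerEquivGroup Q ω)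
  have h2 : r ^ (c + 1) ∣ Nat.card (stabilizer Q ω) := by
    refine Nat.dvd_of_mul_dvd_mul_left (pow_pos hr.out.pos i) ?_
    rw [h1, ← pow_add]
    exact pow_dvd_pow r (by omega)
  refine h2.trans ?_
  have h3 : stabilizer Q ω = (stabilizer U ω).comap Q.subtype := rfl
  rw [h3]
  exact Subgroup.card_comap_dvd_of_injective (stabilizer U ω) Q.subtype Q.subtype_injective

/-- Bounding an order prime by prime. -/
theorem dvd_of_pow_not_dvd {n N : ℕ} (hn : n ≠ 0) (hN : N ≠ 0)
    (h : ∀ r : ℕ, r.Prime → ¬ r ^ (N.factorization r + 1) ∣ n) : n ∣ N := by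
  rw [← Nat.factorization_le_iff_dvd hn hN]
  intro r
  by_cases hr : r.Prime
  · by_contra hlt
    push Not at hlt
    exact h r hr ((hr.pow_dvd_iff_le_factorization hn).2 hlt)
  · rw [Nat.factorization_eq_zero_of_not_prime n hr]
    exact Nat.zero_le _

section Order

variable {U : Type u} [Group U] {V : Type v} [AddCommGroup V] [Finite V] [DistribMulAction U V]

/-- The vectors fixed by an element. -/
def fixedOf (g : U) : AddSubgroup V where
  carrier := {v | g • v = v}
  add_mem' := fun {a b} (ha : g • a = a) (hb : g • b = b) => by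
    show g • (a + b) = a + b; rw [smul_add, ha, hb]
  zero_mem' := smul_zero g
  neg_mem' := fun {a} (ha : g • a = a) => by show g • (-a) = -a; rw [smul_neg, ha]

theorem mem_fixedOf {g : U} {v : V} : v ∈ fixedOf g ↔ g • v = v := Iff.rfl

/-- A subgroup invariant under an element of prime order without nonzero fixed points in it. -/
theorem card_modEq_one {y : U} {r : ℕ} [hr : Fact r.Prime] (hy : y ^ r = 1) (W : AddSubgroup V)
    (hW : ∀ v ∈ W, y • v ∈ W) (hfix : ∀ v ∈ W, y • v = v → v = 0) : Nat.card W ≡ 1 [MOD r] := by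
  have hzW : ∀ g ∈ Subgroup.zpowers y, ∀ v ∈ W, g • v ∈ W := by
    intro g hg
    rw [Subgroup.zpowers_eq_closure] at hg
    induction hg using Subgroup.closure_induction with
    | mem x hx => rw [Set.mem_singleton_iff.1 hx]; exact hW
    | one => exact fun v hv => by rwa [one_smul]
    | mul a b _ _ ha hb => exact fun v hv => by rw [mul_smul]; exact ha _ (hb v hv)
    | inv a ha ih =>
      intro v hv
      let f : W → W := fun w => ⟨a • (w : V), ih _ w.2⟩
      have hf : Function.Injective f := fun w w' e =>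
        Subtype.ext (MulAction.injective a (congrArg Subtype.val e))
      obtain ⟨w, hw⟩ := (Finite.injective_iff_surjective.1 hf) ⟨v, hv⟩
      rw [← show a • (w : V) = v from congrArg Subtype.val hw, inv_smul_smul]
      exact w.2
  letI : MulAction (Subgroup.zpowers y) W :=
    { smul := fun g w => ⟨(g : U) • (w : V), hzW g g.2 w w.2⟩
      one_smul := fun w => Subtype.ext (one_smul U (w : V))
      mul_smul := fun g h w => Subtype.ext (mul_smul (g : U) (h : U) (w : V)) }
  have hpg : IsPGroup r (Subgroup.zpowers y) := fun g => ⟨1, Subtype.ext (by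
    obtain ⟨k, hk⟩ := Subgroup.mem_zpowers_iff.1 g.2
    rw [Subgroup.coe_pow, pow_one, ← hk, ← zpow_natCast, ← zpow_mul, mul_comm, zpow_mul,
      zpow_natCast, hy, one_zpow, Subgroup.coe_one])⟩
  refine (hpg.card_modEq_card_fixedPoints W).trans ?_
  have h1 : Nat.card (MulAction.fixedPoints (Subgroup.zpowers y) W) = 1 := by
    rw [Nat.card_eq_one_iff_exists]
    refine ⟨⟨0, fun g => Subtype.ext (smul_zero (g : U))⟩, fun w => Subtype.ext (Subtype.ext ?_)⟩
    exact hfix _ (w : W).2 (congrArg Subtype.val (w.2 ⟨y, Subgroup.mem_zpowers y⟩))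
  rw [h1]

end Order

variable {U : Type u} [Group U] [Finite U]

/-- The points of a normal subgroup fixed by an element of order `r`. -/
theorem card_centralizer_modEq {R : Subgroup U} [R.Normal] {r : ℕ} [hr : Fact r.Prime] {y : U}
    (hy : y ^ r = 1) :
    Nat.card R ≡ Nat.card ((Subgroup.centralizer ({y} : Set U)).subgroupOf R) [MOD r] := by
  let F : Subgroup R := (Subgroup.centralizer ({y} : Set U)).subgroupOf R
  letI : MulAction (Subgroup.zpowers y) R :=
    MulAction.compHom R ((MulAut.conjNormal (H := R)).comp (Subgroup.zpowers y).subtype)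
  have hsm : ∀ (g : Subgroup.zpowers y) (x : R), ((g • x : R) : U) = (g : U) * x * (g : U)⁻¹ :=
    fun g x => MulAut.conjNormal_apply _ _
  have hpg : IsPGroup r (Subgroup.zpowers y) := fun g => ⟨1, Subtype.ext (by
    obtain ⟨k, hk⟩ := Subgroup.mem_zpowers_iff.1 g.2
    rw [Subgroup.coe_pow, pow_one, ← hk, ← zpow_natCast, ← zpow_mul, mul_comm, zpow_mul,
      zpow_natCast, hy, one_zpow, Subgroup.coe_one])⟩
  have hmod := hpg.card_modEq_card_fixedPoints R
  have hfix : Nat.card (MulAction.fixedPoints (Subgroup.zpowers y) R) = Nat.card F := by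
    refine Nat.card_congr (Equiv.subtypeEquivRight fun x => ⟨fun h => ?_, fun h g => ?_⟩)
    · have h1 := congrArg Subtype.val (h ⟨y, Subgroup.mem_zpowers y⟩)
      rw [hsm] at h1
      exact Subgroup.mem_subgroupOf.2 (Subgroup.mem_centralizer_singleton_iff.2 (by
        calc (x : U) * y = y * x * y⁻¹ * y := by rw [h1]
          _ = y * x := by group))
    · apply Subtype.ext
      rw [hsm]
      have h1 : Commute (x : U) y := Subgroup.mem_centralizer_singleton_iff.1 h
      obtain ⟨k, hk⟩ := Subgroup.mem_zpowers_iff.1 g.2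
      rw [← hk, ← (h1.zpow_right k).eq, mul_inv_cancel_right]
  rw [hfix] at hmod
  exact hmod

/-- A small normal `q`-subgroup is centralised by an element of order `r`. -/
theorem commute_of_small_card {R : Subgroup U} [R.Normal] {q r B : ℕ} [Fact q.Prime] [hr : Fact r.Prime]
    (hR : IsPGroup q R) (hB : ¬ q ^ (B + 1) ∣ Nat.card R)
    (hqr : ∀ i, 1 ≤ i → i ≤ B → ¬ q ^ i ≡ 1 [MOD r]) (hne : q ≠ r) {y : U} (hy : y ^ r = 1) :
    ∀ x ∈ R, Commute y x := by
  obtain ⟨b, hb⟩ := IsPGroup.iff_card.1 hR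
  have hbB : b ≤ B := by
    by_contra hlt
    exact hB ((pow_dvd_pow q (by omega)).trans (dvd_of_eq hb.symm))
  let F : Subgroup R := (Subgroup.centralizer ({y} : Set U)).subgroupOf R
  obtain ⟨a, hab, ha⟩ := (Nat.dvd_prime_pow (Fact.out : q.Prime)).1 (hb ▸ Subgroup.card_subgroup_dvd_card F)
  have hmod : Nat.card R ≡ Nat.card F [MOD r] := card_centralizer_modEq hy
  rw [ha, hb] at hmod
  have hba : b = a := by
    by_contra hlt
    refine hqr (b - a) (by omega) (by omega) ?_
    have hcop : Nat.gcd r (q ^ a) = 1 :=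
      Nat.Coprime.pow_right a ((Nat.coprime_primes hr.out (Fact.out : q.Prime)).2 hne.symm)
    refine Nat.ModEq.cancel_left_of_coprime (c := q ^ a) hcop ?_
    rw [← pow_add, Nat.add_sub_cancel' hab, mul_one]
    exact hmod
  have htop : F = ⊤ := Subgroup.eq_top_of_card_eq _ (by rw [ha, hb, hba])
  intro x hx
  have h1 : (⟨x, hx⟩ : R) ∈ F := htop ▸ Subgroup.mem_top _
  exact (Subgroup.mem_centralizer_singleton_iff.1 (Subgroup.mem_subgroupOf.1 h1)).symm

/-- The same with the bound on the order of the group. -/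
theorem commute_of_small {R : Subgroup U} [R.Normal] {q r B : ℕ} [Fact q.Prime] [Fact r.Prime]
    (hR : IsPGroup q R) (hB : ¬ q ^ (B + 1) ∣ Nat.card U)
    (hqr : ∀ i, 1 ≤ i → i ≤ B → ¬ q ^ i ≡ 1 [MOD r]) (hne : q ≠ r) {y : U} (hy : y ^ r = 1) :
    ∀ x ∈ R, Commute y x :=
  commute_of_small_card hR (fun h => hB (h.trans (Subgroup.card_subgroup_dvd_card R))) hqr hne hy

/-- In a solvable group, an element of order `r` centralising every other core generates `O_r`. -/
theorem zpowers_eq_pCore [Group.IsSolvable U] {r : ℕ} [hr : Fact r.Prime] {y : U} (hy : orderOf y = r)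
    (hr2 : ¬ r ^ 2 ∣ Nat.card U)
    (hc : ∀ q : ℕ, q.Prime → q ≠ r → ∀ x ∈ Cfsg.pCore q U, Commute y x) :
    Subgroup.zpowers y = Cfsg.pCore r U := by
  have hY : IsPGroup r (Subgroup.zpowers y) :=
    IsPGroup.of_card (n := 1) (by rw [Nat.card_zpowers, hy, pow_one])
  haveI := Cfsg.Agent.Cores.pCore_isPGroup (p := r) (G := U)
  have hle1 : ∀ K : Subgroup U, IsPGroup r K → Nat.card K ≤ r := by
    intro K hK
    obtain ⟨n, hn⟩ := IsPGroup.iff_card.1 hK
    rw [hn]
    refine (pow_le_pow_right₀ hr.out.one_le (?_ : n ≤ 1)).trans (le_of_eq (pow_one r))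
    by_contra hlt
    exact hr2 ((pow_dvd_pow r (by omega)).trans (hn ▸ Subgroup.card_subgroup_dvd_card K))
  have hsup : Subgroup.zpowers y ⊔ Cfsg.pCore r U = Subgroup.zpowers y := by
    refine (Subgroup.eq_of_le_of_card_ge le_sup_left ?_).symm
    rw [Nat.card_zpowers, hy]
    exact hle1 _ (hY.to_sup_of_normal_right Cfsg.Agent.Cores.pCore_isPGroup)
  have hcore : Cfsg.pCore r U ≤ Subgroup.zpowers y := le_sup_right.trans hsup.le
  refine le_antisymm ?_ hcore
  have hyF : y ∈ Subgroup.centralizer (Cfsg.fittingSubgroup U : Set U) := by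
    have hle : Cfsg.fittingSubgroup U ≤ Subgroup.centralizer ({y} : Set U) := by
      rw [Cfsg.Agent.Cores.iSup_pCore_eq_fittingSubgroup]
      refine iSup_le fun q x hx => Subgroup.mem_centralizer_singleton_iff.2 ?_
      by_cases hq : (q : ℕ) = r
      · obtain ⟨k, hk⟩ := Subgroup.mem_zpowers_iff.1 (hcore (hq ▸ hx))
        rw [← hk]
        exact ((Commute.refl y).zpow_left k).eq
      · exact (hc q q.2 hq x hx).symm.eq
    exact Subgroup.mem_centralizer_iff.2 fun x hx => Subgroup.mem_centralizer_singleton_iff.1 (hle hx)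
  refine Cfsg.Agent.Cores.le_pCore_of_le_sup hY ?_
  rw [Subgroup.zpowers_le]
  have h1 := Cfsg.Agent.Cores.centralizer_fittingSubgroup_le hyF
  rw [Cfsg.Agent.Cores.iSup_pCore_eq_fittingSubgroup] at h1
  exact Cfsg.Agent.Cores.iSup_pCore_le_sup r h1

end Cfsg.Agent.H38.KSolv
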