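import Mathlib
import Cfsg.Agent.H77.ClassNumber
import Cfsg.Agent.H88.ClassBound.Count

/-!
# Counting conjugacy classes through a central subgroup
-/

set_option autoImplicit false
set_option linter.unusedSectionVars false
set_option linter.style.haveILetI false

namespace Cfsg.Agent.H38.KSolv

open scoped Classical

/-- The class number. -/
noncomputable abbrev kc (G : Type*) [Group G] : ℕ := Nat.card (ConjClasses G)

variable {G : Type*} [Group G] [Finite G]

theorem kc_pos : 0 < kc G := by
  haveI : Nonempty (ConjClasses G) := ⟨ConjClasses.mk 1⟩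
  exact Nat.card_pos

theorem kc_of_comm (h : ∀ a b : G, a * b = b * a) : kc G = Nat.card G := by
  refine (Nat.card_eq_of_bijective (ConjClasses.mk : G → ConjClasses G) ⟨fun a b e => ?_,
    ConjClasses.mk_surjective⟩).symm
  obtain ⟨c, hc⟩ := isConj_iff.1 (ConjClasses.mk_eq_mk_iff_isConj.1 e)
  rw [← hc, h c a, mul_inv_cancel_right]

theorem kc_quotient_le (N : Subgroup G) [N.Normal] : kc (G ⧸ N) ≤ kc G :=
  Nat.card_le_card_of_surjective _
    (ConjClasses.map_surjective (f := QuotientGroup.mk' N) (QuotientGroup.mk'_surjective N))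

theorem kc_congr {H : Type*} [Group H] [Finite H] (e : G ≃* H) : kc G = kc H :=
  le_antisymm
    (Nat.card_le_card_of_surjective _ (ConjClasses.map_surjective (f := e.symm.toMonoidHom) e.symm.surjective))
    (Nat.card_le_card_of_surjective _ (ConjClasses.map_surjective (f := e.toMonoidHom) e.surjective))

/-- The commuting probability does not drop in subgroups. -/
theorem kc_mul_card_le (Y : Subgroup G) : kc G * Nat.card Y ≤ kc Y * Nat.card G := by
  haveI := Fintype.ofFinite G
  refine (Nat.mul_le_mul_right _ (H77.le_kcard_subgroup Y).1).trans (le_of_eq ?_)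
  rw [← Y.card_mul_index]; ring

/-- Passing to a subgroup of small index. -/
theorem kc_subgroup_le (Y : Subgroup G) : kc Y ≤ Y.index * kc G := by
  haveI := Fintype.ofFinite G
  exact H77.kcard_subgroup_le Y

theorem kc_pi {ι : Type*} [Fintype ι] (X : Type*) [Group X] [Finite X] :
    kc (ι → X) = kc X ^ Fintype.card ι := by
  have h := commProb_function (α := ι) (β := X)
  rw [commProb_def', commProb_def', Nat.card_fun, Nat.card_eq_fintype_card (α := ι), div_pow,
    Nat.cast_pow] at h
  have hX : (Nat.card X : ℚ) ^ Fintype.card ι ≠ 0 :=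
    pow_ne_zero _ (Nat.cast_ne_zero.2 Nat.card_pos.ne')
  rw [div_eq_div_iff hX hX] at h
  exact_mod_cast mul_right_cancel₀ hX h

/-- A quotient has a class for every class of a further quotient and one inside the kernel. -/
theorem kc_quotient_succ_le (N : Subgroup G) [N.Normal] (hN : N ≠ ⊥) : kc (G ⧸ N) + 1 ≤ kc G := by
  haveI := Fintype.ofFinite (ConjClasses G)
  haveI := Fintype.ofFinite (ConjClasses (G ⧸ N))
  let π : ConjClasses G → ConjClasses (G ⧸ N) := ConjClasses.map (QuotientGroup.mk' N)
  have hs : Function.Surjective π := ConjClasses.map_surjective (QuotientGroup.mk'_surjective N)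
  obtain ⟨x, hx, hx1⟩ := (Subgroup.ne_bot_iff_exists_ne_one.1 hN |> fun ⟨⟨x, hx⟩, h⟩ =>
    (⟨x, hx, fun e => h (Subtype.ext e)⟩ : ∃ x ∈ N, x ≠ 1))
  have h0 : π (ConjClasses.mk x) = π (ConjClasses.mk 1) := by
    show ConjClasses.mk (QuotientGroup.mk' N x) = ConjClasses.mk (QuotientGroup.mk' N 1)
    rw [show QuotientGroup.mk' N x = 1 from (QuotientGroup.eq_one_iff x).2 hx, map_one]
  have hne : ¬ Function.Injective π := fun hi => hx1
    (isConj_one_left.1 (ConjClasses.mk_eq_mk_iff_isConj.1 (hi h0)))
  simp only [kc, Nat.card_eq_fintype_card]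
  exact Fintype.card_lt_of_surjective_not_injective π hs hne

/-- Classes above chosen classes of the quotient by a central subgroup. -/
theorem classes_over_central (T : Subgroup G) [T.Normal] {ι : Type*} [Fintype ι]
    (hT : ∀ t ∈ T, ∀ g : G, g * t = t * g) (x : ι → G)
    (hx : ∀ i j, IsConj (QuotientGroup.mk' T (x i)) (QuotientGroup.mk' T (x j)) → i = j)
    (L : ℕ) (w : ι → ℕ)
    (hw : ∀ i, w i * Nat.card {t : T // IsConj ((t : G) * x i) (x i)} ≤ L) :
    Nat.card T * ∑ i, w i ≤ L * kc G := by
  haveI := Fintype.ofFinite G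
  haveI := Fintype.ofFinite (ConjClasses G)
  let f : ι → T → ConjClasses G := fun i t => ConjClasses.mk ((t : G) * x i)
  have hmk : ∀ i, ∀ t : T,
      QuotientGroup.mk' T ((t : G) * x i) = QuotientGroup.mk' T (x i) := fun i t => by
    rw [map_mul, show QuotientGroup.mk' T (t : G) = 1 from (QuotientGroup.eq_one_iff _).2 t.2, one_mul]
  let S : ι → Finset (ConjClasses G) := fun i => Finset.univ.image (f i)
  have hdisj : ∀ i ∈ (Finset.univ : Finset ι), ∀ j ∈ (Finset.univ : Finset ι), i ≠ j →
      Disjoint (S i) (S j) := by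
    intro i _ j _ hij
    rw [Finset.disjoint_left]
    intro c hci hcj
    obtain ⟨t, -, rfl⟩ := Finset.mem_image.1 hci
    obtain ⟨t', -, he⟩ := Finset.mem_image.1 hcj
    have h1 := (QuotientGroup.mk' T).map_isConj (ConjClasses.mk_eq_mk_iff_isConj.1 he)
    rw [hmk, hmk] at h1
    exact hij (hx j i h1).symm
  have hsum : ∑ i, (S i).card ≤ kc G := by
    rw [← Finset.card_biUnion hdisj, kc, Nat.card_eq_fintype_card]
    exact Finset.card_le_univ _
  have hfib : ∀ i, Nat.card T ≤ (S i).card * Nat.card {t : T // IsConj ((t : G) * x i) (x i)} := by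
    intro i
    rw [Nat.card_eq_fintype_card, ← Finset.card_univ, mul_comm]
    refine Finset.card_le_mul_card_image (f := f i) _ _ fun c hc => ?_
    obtain ⟨t₀, -, rfl⟩ := Finset.mem_image.1 hc
    rw [← Nat.card_eq_finsetCard]
    refine Nat.card_le_card_of_injective
      (fun t => (⟨(t₀ : T)⁻¹ * (t : T), ?_⟩ : {t : T // IsConj ((t : G) * x i) (x i)}))
      fun a b h => Subtype.ext (mul_left_cancel (congrArg Subtype.val h))
    obtain ⟨c, hc'⟩ := isConj_iff.1 (ConjClasses.mk_eq_mk_iff_isConj.1
      (Finset.mem_filter.1 t.2).2)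
    refine isConj_iff.2 ⟨c, ?_⟩
    have ht : c * ((t₀ : G))⁻¹ = ((t₀ : G))⁻¹ * c := hT _ (inv_mem t₀.2) c
    calc c * (((t₀⁻¹ * (t : T) : T) : G) * x i) * c⁻¹
        = (c * (t₀ : G)⁻¹) * (((t : T) : G) * x i) * c⁻¹ := by push_cast; group
      _ = (t₀ : G)⁻¹ * (c * (((t : T) : G) * x i) * c⁻¹) := by rw [ht]; group
      _ = x i := by rw [hc', inv_mul_cancel_left]
  calc Nat.card T * ∑ i, w i = ∑ i, w i * Nat.card T := by
        rw [Finset.mul_sum]; exact Finset.sum_congr rfl fun i _ => mul_comm _ _
    _ ≤ ∑ i, L * (S i).card := Finset.sum_le_sum fun i _ => by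
        calc w i * Nat.card T
            ≤ w i * ((S i).card * Nat.card {t : T // IsConj ((t : G) * x i) (x i)}) := by
              gcongr; exact hfib i
          _ = w i * Nat.card {t : T // IsConj ((t : G) * x i) (x i)} * (S i).card := by ring
          _ ≤ L * (S i).card := by gcongr; exact hw i
    _ ≤ L * kc G := by rw [← Finset.mul_sum]; gcongr

/-- Orbits on `V ∖ {0}` against the order of the acting group. -/
theorem card_sub_one_le_orbits {V : Type*} [AddCommGroup V] [Finite V] [DistribMulAction G V] :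
    Nat.card V ≤ (Nat.card (MulAction.orbitRel.Quotient G V) - 1) * Nat.card G + 1 := by
  haveI := Fintype.ofFinite V
  haveI := Fintype.ofFinite (MulAction.orbitRel.Quotient G V)
  let o : V → MulAction.orbitRel.Quotient G V := fun v => Quotient.mk'' v
  have h1 : ((Finset.univ : Finset V).erase 0).card ≤ ((Finset.univ : Finset V).erase 0 |>.image o).card * Nat.card G := by
    rw [mul_comm]
    refine Finset.card_le_mul_card_image _ _ fun c hc => ?_
    obtain ⟨v, -, rfl⟩ := Finset.mem_image.1 hc
    rw [← Nat.card_eq_finsetCard]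
    refine Nat.card_le_card_of_injective (fun w => Classical.choose
      (show ∃ g : G, g • v = ((w : V)) from MulAction.mem_orbit_iff.1
        (MulAction.orbitRel_apply.1 (Quotient.exact' ((Finset.mem_filter.1 w.2).2)))))
      fun a b h => Subtype.ext ?_
    have ha := Classical.choose_spec (show ∃ g : G, g • v = ((a : V)) from MulAction.mem_orbit_iff.1
        (MulAction.orbitRel_apply.1 (Quotient.exact' ((Finset.mem_filter.1 a.2).2))))
    have hb := Classical.choose_spec (show ∃ g : G, g • v = ((b : V)) from MulAction.mem_orbit_iff.1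
        (MulAction.orbitRel_apply.1 (Quotient.exact' ((Finset.mem_filter.1 b.2).2))))
    rw [← ha, ← hb]
    exact congrArg (· • v) h
  have h2 : ((Finset.univ : Finset V).erase 0 |>.image o).card ≤
      Nat.card (MulAction.orbitRel.Quotient G V) - 1 := by
    rw [Nat.card_eq_fintype_card, ← Finset.card_univ,
      ← Finset.card_erase_of_mem (Finset.mem_univ (o 0))]
    refine Finset.card_le_card fun c hc => ?_
    obtain ⟨v, hv, rfl⟩ := Finset.mem_image.1 hc
    refine Finset.mem_erase.2 ⟨fun h => (Finset.mem_erase.1 hv).1 ?_, Finset.mem_univ _⟩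
    obtain ⟨g, hg⟩ := MulAction.mem_orbit_iff.1 (MulAction.orbitRel_apply.1 (Quotient.exact' h))
    rw [← hg, smul_zero]
  have h3 : ((Finset.univ : Finset V).erase 0).card + 1 = Nat.card V := by
    rw [Finset.card_erase_add_one (Finset.mem_univ _), Finset.card_univ, Nat.card_eq_fintype_card]
  have h4 := Nat.mul_le_mul_right (Nat.card G) h2
  omega

end Cfsg.Agent.H38.KSolv
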