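import Mathlib
import Cfsg.Agent.H38.KSolv.Classes

/-!
# Groups with at most four classes
-/

set_option autoImplicit false
set_option linter.unusedSectionVars false
set_option linter.style.haveILetI false

namespace Cfsg.Agent.H38.KSolv

open scoped Classical
open Subgroup

variable {G : Type*} [Group G] [Finite G]

theorem carrier_mul_card (x : G) :
    Nat.card (ConjClasses.mk x).carrier * Nat.card (centralizer ({x} : Set G)) = Nat.card G := by
  have h1 := MulAction.index_stabilizer (ConjAct G) x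
  rw [ConjAct.orbit_eq_carrier_conjClasses, ConjAct.stabilizer_eq_centralizer,
    ← Nat.card_coe_set_eq] at h1
  rw [← h1, mul_comm]
  exact Subgroup.card_mul_index (centralizer ({x} : Set G))

/-- A centraliser of prime order contains a Sylow subgroup. -/
theorem not_sq_dvd {p : ℕ} (hp : p.Prime) {x : G}
    (hx : Nat.card (centralizer ({x} : Set G)) = p) (hx1 : x ≠ 1) : ¬ p ^ 2 ∣ Nat.card G := by
  intro hd
  haveI := Fact.mk hp
  have hxC : x ∈ centralizer ({x} : Set G) := mem_centralizer_singleton_iff.2 rfl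
  have hord : orderOf x = p := by
    have h1 : orderOf x ∣ p := by rw [← hx, ← Subgroup.orderOf_mk x hxC]; exact orderOf_dvd_natCard _
    exact (hp.eq_one_or_self_of_dvd _ h1).resolve_left fun h => hx1 (orderOf_eq_one_iff.1 h)
  have hpg : IsPGroup p (zpowers x) := IsPGroup.of_card (n := 1) (by rw [Nat.card_zpowers, hord, pow_one])
  obtain ⟨P, hP⟩ := hpg.exists_le_sylow
  have hxP : x ∈ (P : Subgroup G) := hP (mem_zpowers x)
  have hP2 : p ^ 2 ∣ Nat.card P := by
    rw [P.card_eq_multiplicity]
    exact pow_dvd_pow p ((hp.pow_dvd_iff_le_factorization Nat.card_pos.ne').1 hd)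
  haveI : Nontrivial P := Finite.one_lt_card_iff_nontrivial.1
    (lt_of_lt_of_le (Nat.one_lt_pow two_ne_zero hp.one_lt) (Nat.le_of_dvd Nat.card_pos hP2))
  haveI := IsPGroup.center_nontrivial P.2
  obtain ⟨⟨z, hzc⟩, hz1⟩ := exists_ne (1 : center P)
  have hzC : (z : G) ∈ centralizer ({x} : Set G) := mem_centralizer_singleton_iff.2
    (congrArg Subtype.val ((mem_center_iff.1 hzc ⟨x, hxP⟩))).symm
  have htop : zpowers (z : G) = centralizer ({x} : Set G) := by
    refine Subgroup.eq_of_le_of_card_ge (zpowers_le.2 hzC) ?_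
    have h1 : Nat.card (zpowers (z : G)) ∣ p :=
      (Subgroup.card_dvd_of_le (zpowers_le.2 hzC)).trans (dvd_of_eq hx)
    rcases hp.eq_one_or_self_of_dvd _ h1 with h | h
    · rw [Nat.card_zpowers, orderOf_eq_one_iff] at h
      exact absurd (Subtype.ext (Subtype.ext h)) hz1
    · rw [h, hx]
  have hPle : (P : Subgroup G) ≤ centralizer ({x} : Set G) := by
    intro y hy
    obtain ⟨j, hj⟩ := mem_zpowers_iff.1 (htop.ge hxC)
    have hc : Commute y (z : G) := (congrArg Subtype.val (mem_center_iff.1 hzc ⟨y, hy⟩) :)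
    exact mem_centralizer_singleton_iff.2 (hj ▸ hc.zpow_right j).eq
  have h2 := Nat.le_of_dvd hp.pos (hP2.trans ((Subgroup.card_dvd_of_le hPle).trans (dvd_of_eq hx)))
  nlinarith [hp.two_le]

/-- No group has centraliser orders `2, 3, 7, 42` on four classes. -/
theorem not_forty_two (hG : Nat.card G = 42) {a b g : G}
    (ha : Nat.card (centralizer ({a} : Set G)) = 2) (hb : Nat.card (centralizer ({b} : Set G)) = 3)
    (hg : Nat.card (centralizer ({g} : Set G)) = 7)
    (hall : ∀ x : G, x ≠ 1 → IsConj a x ∨ IsConj b x ∨ IsConj g x) : False := by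
  haveI := Fact.mk (show Nat.Prime 7 by norm_num)
  let C := centralizer ({g} : Set G)
  have hconj : ∀ x y : G, IsConj x y →
      Nat.card (centralizer ({x} : Set G)) = Nat.card (centralizer ({y} : Set G)) := by
    intro x y h
    have h1 := carrier_mul_card x
    rw [ConjClasses.mk_eq_mk_iff_isConj.2 h, ← carrier_mul_card y] at h1
    exact Nat.eq_of_mul_eq_mul_left (Nat.pos_of_ne_zero fun h0 => by
      have := carrier_mul_card y
      rw [h0, zero_mul] at this
      exact Nat.card_pos.ne' this.symm) h1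
  have hgC : g ∈ C := mem_centralizer_singleton_iff.2 rfl
  have hg1 : g ≠ 1 := by
    rintro rfl
    have h1 : centralizer ({(1 : G)} : Set G) = ⊤ :=
      eq_top_iff.2 fun y _ => mem_centralizer_singleton_iff.2 (by simp)
    rw [h1, Subgroup.card_top, hG] at hg
    omega
  haveI hcyc : IsCyclic C := isCyclic_of_prime_card hg
  have hcc : ∀ x ∈ C, ∀ y ∈ C, x * y = y * x := by
    intro x hx y hy
    obtain ⟨z, hz⟩ := hcyc.exists_generator
    obtain ⟨i, hi⟩ := mem_zpowers_iff.1 (hz ⟨x, hx⟩)
    obtain ⟨j, hj⟩ := mem_zpowers_iff.1 (hz ⟨y, hy⟩)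
    have h1 : (⟨x, hx⟩ : C) * ⟨y, hy⟩ = ⟨y, hy⟩ * ⟨x, hx⟩ := by
      rw [← hi, ← hj]; exact (Commute.zpow_zpow_self z i j).eq
    exact congrArg Subtype.val h1
  have key : ∀ x ∈ C, x ≠ 1 → IsConj g x := by
    intro x hx hx1
    have hle : C ≤ centralizer ({x} : Set G) := fun y hy => mem_centralizer_singleton_iff.2 (hcc y hy x hx)
    have h7 : 7 ∣ Nat.card (centralizer ({x} : Set G)) := hg ▸ Subgroup.card_dvd_of_le hle
    rcases hall x hx1 with h | h | h
    · rw [← hconj a x h, ha] at h7; omega
    · rw [← hconj b x h, hb] at h7; omega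
    · exact h
  have hsub : ((C : Set G) \ {1}) ⊆ (ConjClasses.mk g).carrier := fun x hx =>
    ConjClasses.mem_carrier_iff_mk_eq.2 (ConjClasses.mk_eq_mk_iff_isConj.2 (key x hx.1 hx.2).symm)
  have hcar : (ConjClasses.mk g).carrier.ncard = 6 := by
    have h1 := carrier_mul_card g
    rw [hg, hG, Nat.card_coe_set_eq] at h1
    omega
  have heq : ((C : Set G) \ {1}) = (ConjClasses.mk g).carrier := by
    refine Set.eq_of_subset_of_ncard_le hsub ?_ (Set.toFinite _)
    rw [Set.ncard_sdiff (Set.singleton_subset_iff.2 C.one_mem) (Set.toFinite _), Set.ncard_singleton,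
      ← Nat.card_coe_set_eq (C : Set G), show Nat.card (C : Set G) = 7 from hg, hcar]
  haveI hCn : C.Normal := by
    refine ⟨fun x hx y => ?_⟩
    by_cases hx1 : x = 1
    · subst hx1; simp [C.one_mem]
    have hm : x ∈ (ConjClasses.mk g).carrier := heq ▸ ⟨hx, hx1⟩
    have hm' : y * x * y⁻¹ ∈ (ConjClasses.mk g).carrier := by
      rw [ConjClasses.mem_carrier_iff_mk_eq] at hm ⊢
      rw [← hm, ConjClasses.mk_eq_mk_iff_isConj]
      exact (isConj_iff.2 ⟨y, rfl⟩).symm
    rw [← heq] at hm'
    exact hm'.1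
  let ψ : G →* MulAut C := MulAut.conjNormal
  have hker : ∀ x : G, ψ x = 1 → x ∈ C := by
    intro x hx
    have h1 := congrArg Subtype.val (DFunLike.congr_fun hx (⟨g, hgC⟩ : C))
    simp only [ψ, MulAut.conjNormal_apply, MulAut.one_apply] at h1
    exact mem_centralizer_singleton_iff.2 (by
      calc x * g = x * g * x⁻¹ * x := by group
        _ = g * x := by rw [h1])
  have hcomm : ∀ σ τ : MulAut C, σ * τ = τ * σ := fun σ τ => by
    exact (IsCyclic.mulAutMulEquiv C).injective (by rw [map_mul, map_mul, mul_comm])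
  have notC : ∀ x : G, x ≠ 1 → Nat.card (centralizer ({x} : Set G)) ≠ 7 → x ∉ C := by
    intro x hx hne hxC
    exact hne ((hconj g x (key x hxC hx)).symm.trans hg)
  have ha1 : a ≠ 1 := by
    rintro rfl
    have h1 : centralizer ({(1 : G)} : Set G) = ⊤ :=
      eq_top_iff.2 fun y _ => mem_centralizer_singleton_iff.2 (by simp)
    rw [h1, Subgroup.card_top, hG] at ha
    omega
  have hb1 : b ≠ 1 := by
    rintro rfl
    have h1 : centralizer ({(1 : G)} : Set G) = ⊤ :=
      eq_top_iff.2 fun y _ => mem_centralizer_singleton_iff.2 (by simp)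
    rw [h1, Subgroup.card_top, hG] at hb
    omega
  have hpow : ∀ x : G, x ^ Nat.card (centralizer ({x} : Set G)) = 1 := fun x =>
    congrArg Subtype.val (pow_card_eq_one'
      (x := (⟨x, mem_centralizer_singleton_iff.2 rfl⟩ : centralizer ({x} : Set G))))
  have hψa : ψ a ≠ 1 := fun h => notC a ha1 (by omega) (hker a h)
  have hψb : ψ b ≠ 1 := fun h => notC b hb1 (by omega) (hker b h)
  have ha2 : ψ a ^ 2 = 1 := by rw [← map_pow, ← ha, hpow, map_one]
  have hb3 : ψ b ^ 3 = 1 := by rw [← map_pow, ← hb, hpow, map_one]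
  have hc : Commute (ψ a) (ψ b) := hcomm _ _
  have h2 : ψ (a * b) ^ 2 ≠ 1 := by
    rw [map_mul, hc.mul_pow, ha2, one_mul]
    intro h
    exact hψb (by calc ψ b = ψ b ^ 2 * ψ b := by rw [h, one_mul]
                    _ = 1 := by rw [← pow_succ, hb3])
  have h3 : ψ (a * b) ^ 3 ≠ 1 := by
    rw [map_mul, hc.mul_pow, hb3, mul_one]
    intro h
    exact hψa (by calc ψ a = ψ a ^ 2 * ψ a := by rw [ha2, one_mul]
                    _ = 1 := by rw [← pow_succ, h])
  have hab : a * b ≠ 1 := fun h => h2 (by rw [h, map_one, one_pow])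
  rcases hall _ hab with h | h | h
  · exact h2 (by rw [← map_pow, show (2 : ℕ) = Nat.card (centralizer ({a * b} : Set G)) by
      rw [← hconj a _ h, ha], hpow, map_one])
  · exact h3 (by rw [← map_pow, show (3 : ℕ) = Nat.card (centralizer ({a * b} : Set G)) by
      rw [← hconj b _ h, hb], hpow, map_one])
  · have h7 : ψ (a * b) ^ 7 = 1 := by
      rw [← map_pow, show (7 : ℕ) = Nat.card (centralizer ({a * b} : Set G)) by rw [← hconj g _ h, hg],
        hpow, map_one]
    have h6 : ψ (a * b) ^ 6 = 1 := by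
      rw [map_mul, hc.mul_pow, show (6 : ℕ) = 2 * 3 from rfl, pow_mul, ha2, one_pow, one_mul,
        mul_comm 2 3, pow_mul, hb3, one_pow]
    have h1 : ψ (a * b) = 1 := by rw [← h7, pow_succ, h6, one_mul]
    exact h2 (by rw [h1, one_pow])

theorem few_arith {n x y z : ℕ} (h2 : 2 ≤ x) (hxy : x ≤ y) (hyz : y ≤ z) (hn : 12 < n)
    (h : x * y * z + n * (y * z + x * z + x * y) = n * (x * y * z)) :
    x = 2 ∧ ((y = 3 ∧ (z = 7 ∧ n = 42 ∨ z = 8 ∧ n = 24 ∨ z = 9 ∧ n = 18 ∨ z = 10 ∧ n = 15)) ∨
      (y = 4 ∧ z = 5 ∧ n = 20)) := by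
  have hz0 : 0 < z := by omega
  have hy0 : 0 < y := by omega
  have hx3 : x ≤ 3 := by
    by_contra hc
    have h4 : 4 ≤ x := by omega
    have e1 : 4 * (y * z) ≤ x * y * z := by rw [mul_assoc]; exact Nat.mul_le_mul_right _ h4
    have e2 : 4 * (x * z) ≤ x * y * z := by
      calc 4 * (x * z) ≤ y * (x * z) := Nat.mul_le_mul_right _ (by omega)
        _ = _ := by ring
    have e3 : 4 * (x * y) ≤ x * y * z := by
      calc 4 * (x * y) ≤ z * (x * y) := Nat.mul_le_mul_right _ (by omega)
        _ = _ := by ring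
    have hpos : 0 < x * y * z := by positivity
    nlinarith
  interval_cases x
  · have hy4 : y ≤ 4 := by
      by_contra hc
      have h5 : 5 ≤ y := by omega
      have e3 : 5 * y ≤ z * y := Nat.mul_le_mul_right _ (by omega)
      have e4 : 5 * z ≤ y * z := Nat.mul_le_mul_right _ h5
      nlinarith
    interval_cases y
    · ring_nf at h; omega
    · have hz : z ≤ 11 := by nlinarith
      refine ⟨rfl, Or.inl ⟨rfl, ?_⟩⟩
      interval_cases z <;> omega
    · have hz : z ≤ 5 := by nlinarith
      refine ⟨rfl, Or.inr ⟨rfl, ?_⟩⟩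
      interval_cases z <;> omega
  · exfalso
    have hy4 : y ≤ 3 := by
      by_contra hc
      have h4 : 4 ≤ y := by omega
      have e3 : 4 * y ≤ z * y := Nat.mul_le_mul_right _ (by omega)
      have e4 : 4 * z ≤ y * z := Nat.mul_le_mul_right _ h4
      nlinarith
    interval_cases y
    have hz : z ≤ 4 := by nlinarith
    interval_cases z <;> omega

/-- A group with at most four classes has order at most twelve. -/
theorem card_le_twelve (h : kc G ≤ 4) : Nat.card G ≤ 12 := by
  by_contra hn
  push Not at hn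
  haveI := Fintype.ofFinite G
  haveI := Fintype.ofFinite (ConjClasses G)
  rcases Nat.lt_or_ge (kc G) 4 with hlt | hge
  · have := H88.ClassBound.card_le_six (G := G) (Nat.lt_succ_iff.1 hlt)
    omega
  have hk : (Finset.univ.erase (ConjClasses.mk (1 : G))).card = 3 := by
    rw [Finset.card_erase_of_mem (Finset.mem_univ _), Finset.card_univ, ← Nat.card_eq_fintype_card]
    simp only [kc] at h hge
    omega
  obtain ⟨c₁, c₂, c₃, h12, h13, h23, hset⟩ := Finset.card_eq_three.1 hk
  obtain ⟨a, rfl⟩ := ConjClasses.exists_rep c₁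
  obtain ⟨b, rfl⟩ := ConjClasses.exists_rep c₂
  obtain ⟨g, rfl⟩ := ConjClasses.exists_rep c₃
  have hmem : ∀ c : ConjClasses G, c = ConjClasses.mk a ∨ c = ConjClasses.mk b ∨ c = ConjClasses.mk g →
      c ≠ ConjClasses.mk 1 := by
    intro c hc
    have : c ∈ Finset.univ.erase (ConjClasses.mk (1 : G)) := by rw [hset]; simp [hc]
    exact (Finset.mem_erase.1 this).1
  have hall : ∀ x : G, x ≠ 1 → IsConj a x ∨ IsConj b x ∨ IsConj g x := by
    intro x hx
    have hne : ConjClasses.mk x ∈ Finset.univ.erase (ConjClasses.mk (1 : G)) :=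
      Finset.mem_erase.2 ⟨fun e => hx (isConj_one_left.1 (ConjClasses.mk_eq_mk_iff_isConj.1 e)),
        Finset.mem_univ _⟩
    rw [hset] at hne
    simp only [Finset.mem_insert, Finset.mem_singleton, ConjClasses.mk_eq_mk_iff_isConj] at hne
    exact hne.imp IsConj.symm (Or.imp IsConj.symm IsConj.symm)
  have hne1 : a ≠ 1 ∧ b ≠ 1 ∧ g ≠ 1 :=
    ⟨fun e => hmem _ (Or.inl rfl) (by rw [e]), fun e => hmem _ (Or.inr (Or.inl rfl)) (by rw [e]),
      fun e => hmem _ (Or.inr (Or.inr rfl)) (by rw [e])⟩
  set f : G → ℕ := fun x => Nat.card (centralizer ({x} : Set G)) with hf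
  set s : G → ℕ := fun x => Nat.card (ConjClasses.mk x).carrier with hs
  have hsum : 1 + (s a + s b + s g) = Nat.card G := by
    have e := sum_conjClasses_card_eq_card G
    rw [← Finset.add_sum_erase Finset.univ _ (Finset.mem_univ (ConjClasses.mk (1 : G))), hset,
      Finset.sum_insert (by simp [h12, h13]), Finset.sum_insert (by simp [h23]), Finset.sum_singleton] at e
    simp only [Set.toFinset_card, ← Nat.card_eq_fintype_card] at e
    have h1 : Nat.card (ConjClasses.mk (1 : G)).carrier = 1 := by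
      have hc : (ConjClasses.mk (1 : G)).carrier = {1} := by
        ext y
        rw [ConjClasses.mem_carrier_iff_mk_eq, ConjClasses.mk_eq_mk_iff_isConj, Set.mem_singleton_iff,
          isConj_comm, isConj_one_right]
      rw [hc, Nat.card_coe_set_eq, Set.ncard_singleton]
    simp only [hs]
    omega
  have hf2 : ∀ x : G, x ≠ 1 → 2 ≤ f x := by
    intro x hx
    haveI : Nontrivial (centralizer ({x} : Set G)) :=
      ⟨⟨⟨x, mem_centralizer_singleton_iff.2 rfl⟩, 1, fun e => hx (congrArg Subtype.val e)⟩⟩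
    exact Finite.one_lt_card
  have main : ∀ u v w : G, u ≠ 1 → v ≠ 1 → w ≠ 1 → f u ≤ f v → f v ≤ f w →
      1 + (s u + s v + s w) = Nat.card G →
      (∀ x : G, x ≠ 1 → IsConj u x ∨ IsConj v x ∨ IsConj w x) → False := by
    intro u v w hu hv hw huv hvw hsum hall
    have e1 : s u * f u = Nat.card G := carrier_mul_card u
    have e2 : s v * f v = Nat.card G := carrier_mul_card v
    have e3 : s w * f w = Nat.card G := carrier_mul_card w
    have heq : f u * f v * f w + Nat.card G * (f v * f w + f u * f w + f u * f v) =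
        Nat.card G * (f u * f v * f w) := by
      calc f u * f v * f w + Nat.card G * (f v * f w + f u * f w + f u * f v)
          = f u * f v * f w + (s u * f u * (f v * f w) + s v * f v * (f u * f w) +
              s w * f w * (f u * f v)) := by rw [e1, e2, e3]; ring
        _ = (1 + (s u + s v + s w)) * (f u * f v * f w) := by ring
        _ = _ := by rw [hsum]
    obtain ⟨hx, hyz⟩ := few_arith (hf2 u hu) huv hvw hn heq
    have h4 := not_sq_dvd Nat.prime_two hx hu
    rcases hyz with ⟨hy, ⟨hz, hn'⟩ | ⟨hz, hn'⟩ | ⟨hz, hn'⟩ | ⟨hz, hn'⟩⟩ | ⟨hy, hz, hn'⟩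
    · exact not_forty_two hn' hx hy hz hall
    · rw [hn'] at h4; norm_num at h4
    · have h9 := not_sq_dvd Nat.prime_three hy hv
      rw [hn'] at h9; norm_num at h9
    · have h5 : f u ∣ Nat.card G := Subgroup.card_subgroup_dvd_card _
      rw [hx, hn'] at h5; norm_num at h5
    · rw [hn'] at h4; norm_num at h4
  obtain ⟨ha1, hb1, hg1⟩ := hne1
  rcases le_total (f a) (f b) with h1 | h1 <;> rcases le_total (f b) (f g) with h2 | h2 <;>
    rcases le_total (f a) (f g) with h3 | h3
  all_goals first
    | exact main a b g ha1 hb1 hg1 (by omega) (by omega) hsum hall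
    | exact main a g b ha1 hg1 hb1 (by omega) (by omega) (by omega) (fun x hx => by
        rcases hall x hx with h | h | h <;> tauto)
    | exact main b a g hb1 ha1 hg1 (by omega) (by omega) (by omega) (fun x hx => by
        rcases hall x hx with h | h | h <;> tauto)
    | exact main b g a hb1 hg1 ha1 (by omega) (by omega) (by omega) (fun x hx => by
        rcases hall x hx with h | h | h <;> tauto)
    | exact main g a b hg1 ha1 hb1 (by omega) (by omega) (by omega) (fun x hx => by
        rcases hall x hx with h | h | h <;> tauto)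
    | exact main g b a hg1 hb1 ha1 (by omega) (by omega) (by omega) (fun x hx => by
        rcases hall x hx with h | h | h <;> tauto)

end Cfsg.Agent.H38.KSolv
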