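import Mathlib
import Cfsg.Agent.H30.ClassFit.Alt

/-!
# A hyperbolic pair in a nondegenerate alternating pairing
-/

set_option autoImplicit false
set_option linter.unusedSectionVars false
set_option linter.style.haveILetI false

namespace Cfsg.Agent.H38.KSolv

open Cfsg.Agent.H30.ClassFit
open scoped Classical

universe u w

variable {V : Type u} [AddCommGroup V] [Finite V] (B : Alt V)

/-- The plane of a pair. -/
def plane (a b : V) : AddSubgroup V := AddSubgroup.zmultiples a ⊔ AddSubgroup.zmultiples b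

variable {s : ℕ} {a b : V}

theorem exists_nsmul (hs : s.Prime) {w : V} (hw : s • w = 0) (k : ℤ) : ∃ m : ℕ, m < s ∧ k • w = m • w := by
  have hpos : (0 : ℤ) < s := by exact_mod_cast hs.pos
  refine ⟨(k % s).toNat, (Int.toNat_lt (Int.emod_nonneg k hpos.ne')).2 (Int.emod_lt_of_pos k hpos), ?_⟩
  rw [← natCast_zsmul, Int.toNat_of_nonneg (Int.emod_nonneg k hpos.ne')]
  conv_lhs => rw [← Int.emod_add_mul_ediv k s, add_zsmul, mul_comm, mul_zsmul, natCast_zsmul,
    hw, smul_zero, add_zero]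

theorem fpair_pow (ha : s • a = 0) : B.f a b ^ s = 1 := by rw [← B.nsmul_left, ha, B.zero_left]

variable {B}

theorem plane_mem (hs : s.Prime) (ha : s • a = 0) (hb : s • b = 0) {x : V} (hx : x ∈ plane a b) :
    ∃ i < s, ∃ j < s, x = i • a + j • b := by
  obtain ⟨y, hy, z, hz, rfl⟩ := AddSubgroup.mem_sup.1 hx
  obtain ⟨i, rfl⟩ := AddSubgroup.mem_zmultiples_iff.1 hy
  obtain ⟨j, rfl⟩ := AddSubgroup.mem_zmultiples_iff.1 hz
  obtain ⟨m, hm, hmi⟩ := exists_nsmul hs ha i
  obtain ⟨m', hm', hmj⟩ := exists_nsmul hs hb j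
  exact ⟨m, hm, m', hm', by rw [hmi, hmj]⟩

theorem nondegOn_plane (hs : s.Prime) (ha : s • a = 0) (hb : s • b = 0) (hab : B.f a b ≠ 1) :
    B.NondegOn (plane a b) ∧ Nat.card (plane a b) = s * s := by
  have hba : B.f b a ≠ 1 := fun h => hab (B.swap_eq_one h)
  have o1 : orderOf (B.f a b) = s := by
    haveI := Fact.mk hs
    exact orderOf_eq_prime (fpair_pow B ha) hab
  have o2 : orderOf (B.f b a) = s := by
    haveI := Fact.mk hs
    exact orderOf_eq_prime (fpair_pow B hb) hba
  have haP : a ∈ plane a b := AddSubgroup.mem_sup_left (AddSubgroup.mem_zmultiples a)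
  have hbP : b ∈ plane a b := AddSubgroup.mem_sup_right (AddSubgroup.mem_zmultiples b)
  constructor
  · rw [Alt.NondegOn, eq_bot_iff]
    rintro x ⟨hx, hxP⟩
    obtain ⟨i, hi, j, hj, rfl⟩ := plane_mem hs ha hb hx
    have h1 := hxP b hbP
    have h2 := hxP a haP
    rw [B.add_left, B.nsmul_left, B.nsmul_left, B.self, one_pow, mul_one] at h1
    rw [B.add_left, B.nsmul_left, B.nsmul_left, B.self, one_pow, one_mul] at h2
    rw [Nat.eq_zero_of_dvd_of_lt (o1 ▸ orderOf_dvd_of_pow_eq_one h1) hi,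
      Nat.eq_zero_of_dvd_of_lt (o2 ▸ orderOf_dvd_of_pow_eq_one h2) hj]
    simp
  · let g : Fin s × Fin s → plane a b := fun x => ⟨(x.1 : ℕ) • a + (x.2 : ℕ) • b,
      (plane a b).add_mem ((plane a b).nsmul_mem haP _) ((plane a b).nsmul_mem hbP _)⟩
    have hg : Function.Bijective g := by
      constructor
      · rintro ⟨i, j⟩ ⟨i', j'⟩ h
        have h' : (i : ℕ) • a + (j : ℕ) • b = (i' : ℕ) • a + (j' : ℕ) • b := congrArg Subtype.val h
        have e1 : B.f a b ^ (i : ℕ) = B.f a b ^ (i' : ℕ) := by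
          have := congrArg (fun x => B.f x b) h'
          simpa [B.add_left, B.nsmul_left, B.self] using this
        have e2 : B.f b a ^ (j : ℕ) = B.f b a ^ (j' : ℕ) := by
          have := congrArg (fun x => B.f x a) h'
          simpa [B.add_left, B.nsmul_left, B.self] using this
        refine Prod.ext (Fin.ext (pow_injOn_Iio_orderOf ?_ ?_ e1)) (Fin.ext (pow_injOn_Iio_orderOf ?_ ?_ e2))
        · rw [o1]; exact i.2
        · rw [o1]; exact i'.2
        · rw [o2]; exact j.2
        · rw [o2]; exact j'.2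
      · rintro ⟨x, hx⟩
        obtain ⟨i, hi, j, hj, rfl⟩ := plane_mem hs ha hb hx
        exact ⟨(⟨i, hi⟩, ⟨j, hj⟩), rfl⟩
    rw [← Nat.card_eq_of_bijective g hg, Nat.card_prod, Nat.card_fin]

variable (B) in
/-- The complement of the plane of a pair. -/
def rest (a b : V) : AddSubgroup V := B.perp (plane a b : Set V)

theorem rest_data (hB : B.Nondeg) (hs : s.Prime) (ha : s • a = 0) (hb : s • b = 0) (hab : B.f a b ≠ 1) :
    (B.restrict (rest B a b)).Nondeg ∧ s * s * Nat.card (rest B a b) = Nat.card V := by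
  obtain ⟨h1, h2⟩ := nondegOn_plane hs ha hb hab
  exact ⟨B.restrict_nondeg (Alt.nondegOn_perp hB h1),
    h2 ▸ Alt.card_mul_card_perp hB (plane a b)⟩

variable {U : Type w} [Group U] [DistribMulAction U V]

theorem fix_plane (hs : s.Prime) (ha : s • a = 0) (hb : s • b = 0) {g : U} (hga : g • a = a)
    (hgb : g • b = b) {x : V} (hx : x ∈ plane a b) : g • x = x := by
  obtain ⟨i, hi, j, hj, rfl⟩ := plane_mem hs ha hb hx
  rw [smul_add, smul_comm g i, smul_comm g j, hga, hgb]

theorem rest_invariant (hiso : ∀ (g : U) (x y : V), B.f (g • x) (g • y) = B.f x y)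
    (hs : s.Prime) (ha : s • a = 0) (hb : s • b = 0) {g : U} (hga : g • a = a) (hgb : g • b = b)
    {x : V} (hx : x ∈ rest B a b) : g • x ∈ rest B a b := by
  intro p hp
  rw [← fix_plane hs ha hb hga hgb hp, hiso]
  exact hx p hp

theorem eq_one_of_fix (hB : B.Nondeg) (hfaith : ∀ g : U, (∀ v : V, g • v = v) → g = 1)
    (hs : s.Prime) (ha : s • a = 0) (hb : s • b = 0) (hab : B.f a b ≠ 1) {g : U} (hga : g • a = a)
    (hgb : g • b = b) (h : ∀ x ∈ rest B a b, g • x = x) : g = 1 := by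
  have htop := Alt.sup_perp_eq_top hB (nondegOn_plane (B := B) hs ha hb hab).1
  refine hfaith g fun v => ?_
  obtain ⟨p, hp, q, hq, rfl⟩ := AddSubgroup.mem_sup.1 (htop ▸ AddSubgroup.mem_top v)
  rw [smul_add, fix_plane hs ha hb hga hgb hp, h q hq]

end Cfsg.Agent.H38.KSolv
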