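import Mathlib
import Cfsg.Agent.H38.KSolv.Pair
import Cfsg.Agent.H38.KSolv.Actions

/-!
# Solvable isometry groups of pairings on 16 and on 64 points
-/

set_option autoImplicit false
set_option linter.unusedSectionVars false
set_option linter.style.haveILetI false

namespace Cfsg.Agent.H38.KSolv

open Cfsg.Agent.H30.ClassFit
open scoped Classical
open MulAction

universe u w

/-- A faithful action by isometries of a nondegenerate alternating pairing. -/
structure IsoAct (U : Type w) (V : Type u) [Group U] [AddCommGroup V] [DistribMulAction U V] where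
  B : Alt V
  nondeg : B.Nondeg
  iso : ∀ (g : U) (a b : V), B.f (g • a) (g • b) = B.f a b
  faith : ∀ g : U, (∀ v : V, g • v = v) → g = 1

variable {U : Type w} {V : Type u} [Group U] [AddCommGroup V] [Finite V] [DistribMulAction U V]

theorem IsoAct.finite (A : IsoAct U V) : Finite U :=
  Finite.of_injective (fun (g : U) (v : V) => g • v) fun g g' h => by
    refine inv_mul_eq_one.1 (A.faith _ fun v => ?_)
    rw [mul_smul, inv_smul_eq_iff]
    exact (congrFun h v).symm

/-- The stabiliser of a hyperbolic pair acts on the complement. -/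
theorem IsoAct.step (A : IsoAct U V) {s : ℕ} (hs : s.Prime) {a b : V} (ha : s • a = 0)
    (hb : s • b = 0) (hab : A.B.f a b ≠ 1) {P : Prop}
    (h : ∀ (H : Subgroup U), H = stabilizer U (a, b) →
      ∀ [DistribMulAction H (rest A.B a b)], IsoAct H (rest A.B a b) → P) : P := by
  let H : Subgroup U := stabilizer U (a, b)
  have hfix : ∀ g : H, (g : U) • a = a ∧ (g : U) • b = b := fun g => Prod.mk.inj (g.2 : (g : U) • (a, b) = (a, b))
  letI act : DistribMulAction H (rest A.B a b) :=
    { smul := fun g x => ⟨(g : U) • (x : V), rest_invariant A.iso hs ha hb (hfix g).1 (hfix g).2 x.2⟩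
      one_smul := fun x => Subtype.ext (one_smul U (x : V))
      mul_smul := fun g k x => Subtype.ext (mul_smul (g : U) (k : U) (x : V))
      smul_zero := fun g => Subtype.ext (smul_zero (g : U))
      smul_add := fun g x y => Subtype.ext (smul_add (g : U) (x : V) (y : V)) }
  exact h H rfl ⟨A.B.restrict _, (rest_data A.nondeg hs ha hb hab).1, fun g x y => A.iso g x y,
    fun g hg => Subtype.ext (eq_one_of_fix A.nondeg A.faith hs ha hb hab (hfix g).1 (hfix g).2
      fun x hx => congrArg Subtype.val (hg ⟨x, hx⟩))⟩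

theorem card_eq_one_of_one (A : IsoAct U V) (hV : Nat.card V = 1) : Nat.card U = 1 := by
  haveI := (Nat.card_eq_one_iff_unique.1 hV).1
  haveI : Subsingleton U := ⟨fun g g' => by
    rw [A.faith g fun v => Subsingleton.elim _ _, A.faith g' fun v => Subsingleton.elim _ _]⟩
  exact Nat.card_of_subsingleton 1

theorem card_dvd_six (A : IsoAct U V) (hV : Nat.card V = 4) : Nat.card U ∣ 6 := by
  haveI := A.finite
  let Ω := {v : V // v ≠ 0}
  letI : MulAction U Ω :=
    { smul := fun g v => ⟨g • v.1, fun h => v.2 ((smul_eq_zero_iff_eq g).1 h)⟩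
      one_smul := fun v => Subtype.ext (one_smul U v.1)
      mul_smul := fun g k v => Subtype.ext (mul_smul g k v.1) }
  haveI := Fintype.ofFinite V
  have h3 : Nat.card Ω = 3 := by
    rw [Nat.card_eq_fintype_card, Fintype.card_subtype_compl, Fintype.card_subtype_eq,
      ← Nat.card_eq_fintype_card, hV]
  have hinj : Function.Injective (MulAction.toPermHom U Ω) := by
    rw [injective_iff_map_eq_one]
    intro g hg
    refine A.faith g fun v => ?_
    by_cases hv : v = 0
    · rw [hv, smul_zero]
    · exact congrArg Subtype.val (Equiv.congr_fun hg ⟨v, hv⟩)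
  have := Subgroup.card_dvd_of_injective _ hinj
  rwa [Nat.card_perm, h3] at this

theorem nonzero_step [Finite U] {r j c : ℕ} [Fact r.Prime] (hj : ¬ r ^ (j + 1) ∣ Nat.card V - 1)
    (hc : ∀ v : V, v ≠ 0 → ¬ r ^ (c + 1) ∣ Nat.card (stabilizer U v)) :
    ¬ r ^ (j + c + 1) ∣ Nat.card U := by
  let Ω := {v : V // v ≠ 0}
  letI : MulAction U Ω :=
    { smul := fun g v => ⟨g • v.1, fun h => v.2 ((smul_eq_zero_iff_eq g).1 h)⟩
      one_smul := fun v => Subtype.ext (one_smul U v.1)
      mul_smul := fun g k v => Subtype.ext (mul_smul g k v.1) }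
  haveI := Fintype.ofFinite V
  refine pow_not_dvd_step (Ω := Ω) ?_ fun ω => ?_
  · rwa [Nat.card_eq_fintype_card (α := Ω), Fintype.card_subtype_compl, Fintype.card_subtype_eq,
      ← Nat.card_eq_fintype_card]
  · refine fun hd => hc ω.1 ω.2 (hd.trans (dvd_of_eq (congrArg (fun H : Subgroup U => Nat.card H) ?_)))
    ext g
    exact ⟨fun h => congrArg Subtype.val h, fun h => Subtype.ext h⟩

theorem card_partners (A : IsoAct U V) (h2 : ∀ v : V, 2 • v = 0) {v : V} (hv : v ≠ 0) :
    2 * Nat.card {w : V // A.B.f v w ≠ 1} = Nat.card V := by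
  haveI := Fintype.ofFinite V
  have h := Alt.card_mul_card_perp A.nondeg (AddSubgroup.zmultiples v)
  rw [Nat.card_zmultiples, addOrderOf_eq_prime (h2 v) hv] at h
  have he : Nat.card (A.B.perp (AddSubgroup.zmultiples v : Set V)) = Nat.card {w : V // A.B.f v w = 1} := by
    refine Nat.card_congr (Equiv.subtypeEquivRight fun w => ⟨fun hw => A.B.swap_eq_one
      (hw v (AddSubgroup.mem_zmultiples v)), fun hw u hu => ?_⟩)
    obtain ⟨m, -, hm⟩ := exists_nsmul Nat.prime_two (h2 v) (AddSubgroup.mem_zmultiples_iff.1 hu).choose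
    rw [← (AddSubgroup.mem_zmultiples_iff.1 hu).choose_spec, hm, A.B.nsmul_right, A.B.swap_eq_one hw, one_pow]
  rw [he] at h
  have hsum : Nat.card {w : V // A.B.f v w ≠ 1} + Nat.card {w : V // A.B.f v w = 1} = Nat.card V := by
    simp only [Nat.card_eq_fintype_card]
    rw [Fintype.card_subtype_compl]
    exact Nat.sub_add_cancel (Fintype.card_subtype_le _)
  omega

theorem partner_step [Finite U] (A : IsoAct U V) (h2 : ∀ v : V, 2 • v = 0) {v : V} (hv : v ≠ 0)
    {r j c : ℕ} [Fact r.Prime] (hj : ¬ r ^ (j + 1) ∣ Nat.card V / 2)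
    (hc : ∀ w : V, A.B.f v w ≠ 1 → ¬ r ^ (c + 1) ∣ Nat.card (stabilizer U (v, w))) :
    ¬ r ^ (j + c + 1) ∣ Nat.card (stabilizer U v) := by
  let Ω := {w : V // A.B.f v w ≠ 1}
  letI : MulAction (stabilizer U v) Ω :=
    { smul := fun g w => ⟨(g : U) • w.1, fun h => w.2 (by
        have h1 := A.iso g v w.1
        rw [show (g : U) • v = v from g.2, h] at h1
        exact h1.symm)⟩
      one_smul := fun w => Subtype.ext (one_smul U w.1)
      mul_smul := fun g k w => Subtype.ext (mul_smul (g : U) (k : U) w.1) }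
  refine pow_not_dvd_step (Ω := Ω) ?_ fun ω => ?_
  · rwa [show Nat.card Ω = Nat.card V / 2 by
      have := card_partners A h2 hv
      change Nat.card {w : V // A.B.f v w ≠ 1} = _
      omega]
  · refine fun hd => hc ω.1 ω.2 (hd.trans ?_)
    rw [← Subgroup.card_map_of_injective (K := stabilizer (stabilizer U v) ω) (stabilizer U v).subtype_injective]
    refine Subgroup.card_dvd_of_le ?_
    rintro _ ⟨g, hg, rfl⟩
    exact Prod.ext g.2 (congrArg Subtype.val hg)

theorem pair_card_dvd_six (A : IsoAct U V) (h2 : ∀ v : V, 2 • v = 0) (hV : Nat.card V = 16) {v w : V}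
    (hw : A.B.f v w ≠ 1) : Nat.card (stabilizer U (v, w)) ∣ 6 :=
  A.step Nat.prime_two (h2 v) (h2 w) hw fun H hH _ A' => by
    subst hH
    refine card_dvd_six A' ?_
    have := (rest_data A.nondeg Nat.prime_two (h2 v) (h2 w) hw).2
    omega

theorem stab16_not_dvd (A : IsoAct U V) (h2 : ∀ v : V, 2 • v = 0) (hV : Nat.card V = 16) {v : V}
    (hv : v ≠ 0) : ¬ 2 ^ 5 ∣ Nat.card (stabilizer U v) ∧ ¬ 3 ^ 2 ∣ Nat.card (stabilizer U v) ∧
      ∀ r : ℕ, r.Prime → 5 ≤ r → ¬ r ∣ Nat.card (stabilizer U v) := by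
  haveI := A.finite
  haveI := Fact.mk Nat.prime_two
  haveI := Fact.mk Nat.prime_three
  refine ⟨partner_step (j := 3) (c := 1) A h2 hv (by rw [hV]; norm_num) fun w hw hd => ?_,
    partner_step (j := 0) (c := 1) A h2 hv (by rw [hV]; norm_num) fun w hw hd => ?_,
    fun r hr h5 => ?_⟩
  · exact absurd (hd.trans (pair_card_dvd_six A h2 hV hw)) (by norm_num)
  · exact absurd (hd.trans (pair_card_dvd_six A h2 hV hw)) (by norm_num)
  · haveI := Fact.mk hr
    have h8 : ¬ r ∣ 8 := fun h => by
      have := Nat.prime_two.eq_one_or_self_of_dvd r (hr.dvd_of_dvd_pow (show r ∣ 2 ^ 3 from h))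
      omega
    have h6 : ¬ r ∣ 6 := fun h => by
      rcases (hr.dvd_mul).1 (show r ∣ 2 * 3 from h) with h' | h' <;>
        have := Nat.le_of_dvd (by norm_num) h' <;> omega
    simpa using partner_step (j := 0) (c := 0) A h2 hv (by rw [hV]; simpa using h8)
      fun w hw hd => h6 ((pow_one r ▸ hd).trans (pair_card_dvd_six A h2 hV hw))

/-- The fixed vectors of a normal subgroup. -/
def fixedBy (N : Subgroup U) : AddSubgroup V where
  carrier := {v | ∀ g ∈ N, g • v = v}
  add_mem' := fun {a b} ha hb g hg => by rw [smul_add, ha g hg, hb g hg]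
  zero_mem' := fun g _ => smul_zero g
  neg_mem' := fun {a} ha g hg => by rw [smul_neg, ha g hg]

theorem fixedBy_invariant {N : Subgroup U} [hN : N.Normal] (g : U) {v : V} (hv : v ∈ fixedBy (V := V) N) :
    g • v ∈ fixedBy (V := V) N := fun n hn => by
  rw [← mul_smul, show n * g = g * (g⁻¹ * n * g⁻¹⁻¹) by group, mul_smul, hv _ (hN.conj_mem n hn g⁻¹)]

theorem fixedBy_ne_bot (A : IsoAct U V) {N : Subgroup U} (hN : IsPGroup 2 N)
    (hV : 2 ∣ Nat.card V) : fixedBy (V := V) N ≠ ⊥ := by
  haveI := A.finite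
  haveI := Fact.mk Nat.prime_two
  have h0 : (0 : V) ∈ MulAction.fixedPoints N V := fun g => smul_zero (g : U)
  obtain ⟨v, hv, hv0⟩ := hN.exists_fixed_point_of_prime_dvd_card_of_fixed_point V hV h0
  intro h
  have h1 : v ∈ fixedBy (V := V) N := fun g hg => hv ⟨g, hg⟩
  rw [h, AddSubgroup.mem_bot] at h1
  exact hv0 h1.symm

theorem card_le_of_normal_zpowers [Finite U] {y : U} {r : ℕ} (hr : r.Prime) (hy : orderOf y = r)
    [(Subgroup.zpowers y).Normal] :
    Nat.card U ≤ (r - 1) * Nat.card (Subgroup.centralizer ({y} : Set U)) := by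
  let ψ : U →* MulAut (Subgroup.zpowers y) := MulAut.conjNormal
  rw [← ψ.ker.card_mul_index, Subgroup.index_ker, mul_comm]
  refine Nat.mul_le_mul ?_ (Nat.le_of_dvd Nat.card_pos (Subgroup.card_dvd_of_le fun g hg => ?_))
  · refine (Subgroup.card_le_card_group _).trans (le_of_eq ?_)
    rw [IsCyclic.card_mulAut, Nat.card_zpowers, hy, Nat.totient_prime hr]
  · have h1 := congrArg Subtype.val (DFunLike.congr_fun (MonoidHom.mem_ker.1 hg) ⟨y, Subgroup.mem_zpowers y⟩)
    simp only [ψ, MulAut.conjNormal_apply, MulAut.one_apply] at h1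
    exact Subgroup.mem_centralizer_singleton_iff.2 (by
      calc g * y = g * y * g⁻¹ * g := by group
        _ = y * g := by rw [h1])

theorem fixedOf_smul {g y : U} (hgy : g * y = y * g) {v : V} (hv : v ∈ fixedOf (V := V) g) :
    y • v ∈ fixedOf (V := V) g := by
  rw [mem_fixedOf] at hv ⊢
  rw [← mul_smul, hgy, mul_smul, hv]

/-- Sixteen points. -/
theorem iso16 [Group.IsSolvable U] (A : IsoAct U V) (h2 : ∀ v : V, 2 • v = 0) (hV : Nat.card V = 16) :
    Nat.card U ∣ 720 ∧ Nat.card U ≤ 144 := by
  haveI := A.finite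
  have hb2 : ¬ 2 ^ 5 ∣ Nat.card U := by
    haveI := Fact.mk Nat.prime_two
    exact nonzero_step (V := V) (j := 0) (c := 4) (by rw [hV]; norm_num)
      fun v hv => (stab16_not_dvd A h2 hV hv).1
  have hb3 : ¬ 3 ^ 3 ∣ Nat.card U := by
    haveI := Fact.mk Nat.prime_three
    exact nonzero_step (V := V) (j := 1) (c := 1) (by rw [hV]; norm_num)
      fun v hv => (stab16_not_dvd A h2 hV hv).2.1
  have hb5 : ¬ 5 ^ 2 ∣ Nat.card U := by
    haveI := Fact.mk (show Nat.Prime 5 by norm_num)
    exact nonzero_step (V := V) (j := 1) (c := 0) (by rw [hV]; norm_num)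
      fun v hv h => (stab16_not_dvd A h2 hV hv).2.2 5 (by norm_num) le_rfl (by simpa using h)
  have hb : ∀ r : ℕ, r.Prime → 7 ≤ r → ¬ r ∣ Nat.card U := by
    intro r hr h7
    haveI := Fact.mk hr
    have h15 : ¬ r ∣ 15 := fun h => by
      rcases (hr.dvd_mul).1 (show r ∣ 3 * 5 from h) with h' | h' <;>
        have := Nat.le_of_dvd (by norm_num) h' <;> omega
    simpa using nonzero_step (U := U) (V := V) (r := r) (j := 0) (c := 0) (by rw [hV]; simpa using h15)
      fun v hv h => (stab16_not_dvd A h2 hV hv).2.2 r hr (by omega) (by simpa using h)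
  have hdvd : Nat.card U ∣ 720 := by
    refine dvd_of_pow_not_dvd Nat.card_pos.ne' (by norm_num) fun r hr hd => ?_
    rcases lt_or_ge r 7 with hlt | hge
    · interval_cases r
      · exact absurd hr (by norm_num)
      · exact absurd hr (by norm_num)
      · exact hb2 ((pow_dvd_pow 2 (show 5 ≤ Nat.factorization 720 2 + 1 by
          have := (Nat.prime_two.pow_dvd_iff_le_factorization (show (720 : ℕ) ≠ 0 by norm_num)).1
            (show 2 ^ 4 ∣ 720 by norm_num)
          omega)).trans hd)
      · exact hb3 ((pow_dvd_pow 3 (show 3 ≤ Nat.factorization 720 3 + 1 by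
          have := (Nat.prime_three.pow_dvd_iff_le_factorization (show (720 : ℕ) ≠ 0 by norm_num)).1
            (show 3 ^ 2 ∣ 720 by norm_num)
          omega)).trans hd)
      · exact absurd hr (by norm_num)
      · exact hb5 ((pow_dvd_pow 5 (show 2 ≤ Nat.factorization 720 5 + 1 by
          have := (hr.pow_dvd_iff_le_factorization (show (720 : ℕ) ≠ 0 by norm_num)).1
            (show 5 ^ 1 ∣ 720 by norm_num)
          omega)).trans hd)
      · exact absurd hr (by norm_num)
    · exact hb r hr hge ((dvd_pow_self r (Nat.succ_ne_zero _)).trans hd)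
  refine ⟨hdvd, ?_⟩
  by_cases h5 : 5 ∣ Nat.card U
  · haveI := Fact.mk (show Nat.Prime 5 by norm_num)
    obtain ⟨y, hy⟩ := exists_prime_orderOf_dvd_card' (G := U) 5 h5
    have hy5 : y ^ 5 = 1 := hy ▸ pow_orderOf_eq_one y
    have hfpf : ∀ v : V, y • v = v → v = 0 := by
      intro v hv
      by_contra hv0
      refine (stab16_not_dvd A h2 hV hv0).2.2 5 (by norm_num) le_rfl ?_
      rw [← hy, ← Subgroup.orderOf_mk y (show y ∈ stabilizer U v from hv)]
      exact orderOf_dvd_natCard _
    have hbig : ∀ W : AddSubgroup V, (∀ v ∈ W, y • v ∈ W) → W ≠ ⊥ → W = ⊤ := by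
      intro W hW hWb
      have hmod : Nat.card W % 5 = 1 := card_modEq_one hy5 W hW fun v _ => hfpf v
      have hd : Nat.card W ∣ 2 ^ 4 := (AddSubgroup.card_addSubgroup_dvd_card W).trans (dvd_of_eq (by rw [hV]; norm_num))
      obtain ⟨k, hk, hWk⟩ := (Nat.dvd_prime_pow Nat.prime_two).1 hd
      refine AddSubgroup.eq_top_of_card_eq _ ?_
      interval_cases k
      · exact absurd (AddSubgroup.eq_bot_of_card_eq _ (by rw [hWk]; norm_num)) hWb
      all_goals rw [hWk, hV]
      all_goals rw [hWk] at hmod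
      all_goals norm_num at hmod
      norm_num
    have hO2 : Cfsg.pCore 2 U = ⊥ := by
      by_contra hne
      have htop := hbig _ (fun v hv => fixedBy_invariant y hv)
        (fixedBy_ne_bot A (N := Cfsg.pCore 2 U) Cfsg.Agent.Cores.pCore_isPGroup (by rw [hV]; norm_num))
      exact hne ((Subgroup.eq_bot_iff_forall _).2 fun g hg => A.faith g fun v =>
        (htop ▸ AddSubgroup.mem_top v : v ∈ fixedBy (V := V) (Cfsg.pCore 2 U)) g hg)
    have hN : Subgroup.zpowers y = Cfsg.pCore 5 U := by
      refine zpowers_eq_pCore hy hb5 fun q hq hq5 => ?_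
      haveI := Fact.mk hq
      rcases eq_or_ne q 2 with rfl | hq2
      · intro x hx
        rw [hO2, Subgroup.mem_bot] at hx
        rw [hx]; exact Commute.one_right y
      rcases eq_or_ne q 3 with rfl | hq3
      · exact commute_of_small Cfsg.Agent.Cores.pCore_isPGroup (B := 2) hb3
          (fun i h1 h2 => by interval_cases i <;> decide) hq5 hy5
      · have h7 : 7 ≤ q := by
          by_contra hlt
          have := hq.two_le
          interval_cases q <;> first | omega | exact absurd hq (by norm_num)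
        exact commute_of_small Cfsg.Agent.Cores.pCore_isPGroup (B := 0)
          (by simpa using hb q hq h7) (fun i h1 h2 => by omega) hq5 hy5
    haveI : (Subgroup.zpowers y).Normal := hN ▸ inferInstance
    have hC : Nat.card (Subgroup.centralizer ({y} : Set U)) ≤ 15 := by
      haveI : Nontrivial V := Finite.one_lt_card_iff_nontrivial.1 (by omega)
      obtain ⟨v, hv⟩ := exists_ne (0 : V)
      haveI := Fintype.ofFinite V
      have h15 : Nat.card {x : V // x ≠ 0} = 15 := by
        rw [Nat.card_eq_fintype_card, Fintype.card_subtype_compl, Fintype.card_subtype_eq,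
          ← Nat.card_eq_fintype_card, hV]
      rw [← h15]
      refine Nat.card_le_card_of_injective (fun g => ⟨(g : U) • v, fun h => hv ((smul_eq_zero_iff_eq _).1 h)⟩)
        fun g k h => ?_
      have h1 : (g : U) • v = (k : U) • v := congrArg Subtype.val h
      refine Subtype.ext (inv_mul_eq_one.1 (A.faith _ fun x => ?_))
      have hc : ((g : U)⁻¹ * k) * y = y * ((g : U)⁻¹ * k) :=
        Subgroup.mem_centralizer_singleton_iff.1 (Subgroup.mul_mem _ (inv_mem g.2) k.2)
      have htop := hbig (fixedOf ((g : U)⁻¹ * k)) (fun z hz => fixedOf_smul hc hz) fun hb0 => hv (by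
        have : v ∈ fixedOf (V := V) ((g : U)⁻¹ * k) := by
          rw [mem_fixedOf, mul_smul, ← h1, inv_smul_smul]
        rwa [hb0, AddSubgroup.mem_bot] at this)
      exact (htop ▸ AddSubgroup.mem_top x : x ∈ fixedOf (V := V) ((g : U)⁻¹ * k))
    have := card_le_of_normal_zpowers (U := U) (show Nat.Prime 5 by norm_num) hy
    omega
  · have : Nat.card U ∣ 144 := by
      refine (Nat.Coprime.dvd_of_dvd_mul_left ?_ (show Nat.card U ∣ 5 * 144 from hdvd))
      exact ((show Nat.Prime 5 by norm_num).coprime_iff_not_dvd.2 h5).symm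
    exact Nat.le_of_dvd (by norm_num) this

end Cfsg.Agent.H38.KSolv
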