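import Mathlib

/-!
# Elementary abelian `3`-groups acting on groups of exponent two
-/

set_option autoImplicit false
set_option linter.unusedSectionVars false
set_option linter.style.haveILetI false

namespace Cfsg.Agent.H38.KSolv

universe u v

theorem four_pow_le : ∀ (n : ℕ) (R : Type u) (V : Type v) [CommGroup R] [Finite R] [AddCommGroup V]
    [Finite V] [DistribMulAction R V], Nat.card V = n → (∀ g : R, g ^ 3 = 1) → (∀ x : V, 2 • x = 0) →
    (∀ g : R, (∀ x : V, g • x = x) → g = 1) → ∀ i, Nat.card R = 3 ^ i → 4 ^ i ≤ Nat.card V := by
  intro n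
  induction n using Nat.strong_induction_on with
  | _ n ih =>
    intro R V _ _ _ _ _ hn h3 h2 hf i hi
    classical
    rcases Nat.eq_zero_or_pos i with rfl | hi0
    · rw [pow_zero]; exact Nat.card_pos
    have hneg : ∀ x : V, -x = x := fun x => by
      rw [neg_eq_iff_add_eq_zero, ← two_nsmul, h2]
    have hsum : ∀ (g : R) (x : V), g • (x + g • x + g • g • x) = x + g • x + g • g • x := by
      intro g x
      simp only [smul_add, ← mul_smul]
      rw [show g * (g * g) = 1 by rw [← h3 g, pow_succ, pow_two, mul_assoc], one_smul]
      abel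
    by_cases hfix : ∃ g : R, g ≠ 1 ∧ ∃ x : V, x ≠ 0 ∧ g • x = x
    · obtain ⟨g, hg, x₀, hx₀, hgx₀⟩ := hfix
      let C : AddSubgroup V :=
        { carrier := {x | g • x = x}
          add_mem' := fun {a b} (ha : g • a = a) (hb : g • b = b) => by
            show g • (a + b) = a + b; rw [smul_add, ha, hb]
          zero_mem' := smul_zero g
          neg_mem' := fun {a} (ha : g • a = a) => by show g • (-a) = -a; rw [smul_neg, ha] }
      let D : AddSubgroup V :=
        { carrier := {x | x + g • x + g • g • x = 0}
          add_mem' := fun {a b} (ha : a + g • a + g • g • a = 0) (hb : b + g • b + g • g • b = 0) => by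
            show a + b + g • (a + b) + g • g • (a + b) = 0
            rw [smul_add, smul_add, show a + b + (g • a + g • b) + (g • g • a + g • g • b) =
              (a + g • a + g • g • a) + (b + g • b + g • g • b) by abel, ha, hb, add_zero]
          zero_mem' := by show (0 : V) + g • 0 + g • g • 0 = 0; simp
          neg_mem' := fun {a} (ha : a + g • a + g • g • a = 0) => by
            show -a + g • -a + g • g • -a = 0; rw [hneg]; exact ha }
      let φ : V → C × D := fun x => (⟨x + g • x + g • g • x, hsum g x⟩,
        ⟨x + (x + g • x + g • g • x), by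
          show x + (x + g • x + g • g • x) + g • (x + (x + g • x + g • g • x)) +
            g • g • (x + (x + g • x + g • g • x)) = 0
          simp only [smul_add g x, smul_add g (g • x)]
          rw [hsum, hsum]
          rw [show x + (x + g • x + g • g • x) + (g • x + (x + g • x + g • g • x)) +
              (g • g • x + (x + g • x + g • g • x)) = 2 • (x + g • x + g • g • x) +
              2 • (x + g • x + g • g • x) by rw [two_nsmul]; abel, h2, add_zero]⟩)
      have hφ : Function.Bijective φ := by
        constructor
        · intro x y h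
          have h1 : x + g • x + g • g • x = y + g • y + g • g • y :=
            congrArg Subtype.val (Prod.ext_iff.1 h).1
          have h2' : x + (x + g • x + g • g • x) = y + (y + g • y + g • g • y) :=
            congrArg Subtype.val (Prod.ext_iff.1 h).2
          rw [h1] at h2'
          exact add_right_cancel h2'
        · rintro ⟨⟨c, hc⟩, ⟨d, hd⟩⟩
          have hc' : g • c = c := hc
          have hd' : d + g • d + g • g • d = 0 := hd
          have e : c + d + g • (c + d) + g • g • (c + d) = c := by
            rw [smul_add, smul_add, hc', hc', show c + d + (c + g • d) + (c + g • g • d) =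
              c + 2 • c + (d + g • d + g • g • d) by rw [two_nsmul]; abel, h2, hd', add_zero, add_zero]
          refine ⟨c + d, Prod.ext (Subtype.ext e) (Subtype.ext ?_)⟩
          show c + d + (c + d + g • (c + d) + g • g • (c + d)) = d
          rw [e, show c + d + c = 2 • c + d by rw [two_nsmul]; abel, h2, zero_add]
      have hcard : Nat.card C * Nat.card D = Nat.card V := by
        rw [← Nat.card_prod]; exact (Nat.card_eq_of_bijective φ hφ).symm
      have hC1 : 2 ≤ Nat.card C := by
        haveI : Nontrivial C := ⟨⟨⟨x₀, hgx₀⟩, 0, fun e => hx₀ (congrArg Subtype.val e)⟩⟩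
        exact Finite.one_lt_card
      have hD1 : 2 ≤ Nat.card D := by
        by_contra hlt
        have hD : Nat.card D = 1 := by have := Nat.card_pos (α := D); omega
        haveI := (Nat.card_eq_one_iff_unique.1 hD).1
        refine hg (hf g fun x => ?_)
        have h1 : x + (x + g • x + g • g • x) = 0 :=
          congrArg Subtype.val (Subsingleton.elim (φ x).2 0)
        have h2' : x = x + g • x + g • g • x := by
          exact (eq_neg_of_add_eq_zero_left h1).trans (hneg _)
        rw [h2']
        exact hsum g x
      have part : ∀ (W : AddSubgroup V), (∀ (h : R), ∀ x ∈ W, h • x ∈ W) → Nat.card W < n →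
          ∃ (K : Subgroup R) (j : ℕ), (∀ h ∈ K, ∀ x ∈ W, h • x = x) ∧ K.index = 3 ^ j ∧ 4 ^ j ≤ Nat.card W := by
        intro W hW hlt
        let ψ : R →* AddMonoid.End W :=
          { toFun := fun h => AddMonoidHom.mk' (fun x => ⟨h • (x : V), hW h x x.2⟩)
              fun a b => Subtype.ext (smul_add h (a : V) (b : V))
            map_one' := AddMonoidHom.ext fun x => Subtype.ext (one_smul R (x : V))
            map_mul' := fun a b => AddMonoidHom.ext fun x => Subtype.ext (mul_smul a b (x : V)) }
        letI : DistribMulAction (R ⧸ ψ.ker) W :=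
          DistribMulAction.compHom (M := AddMonoid.End W) W (QuotientGroup.lift ψ.ker ψ le_rfl)
        obtain ⟨j, -, hj⟩ := (Nat.dvd_prime_pow Nat.prime_three).1
          (hi ▸ Subgroup.card_quotient_dvd_card ψ.ker)
        refine ⟨ψ.ker, j, fun h hh x hx => ?_, hj, ih _ hlt (R ⧸ ψ.ker) W rfl (fun q => ?_)
          (fun x => Subtype.ext (h2 x)) (fun q hq => ?_) j hj⟩
        · exact congrArg Subtype.val (DFunLike.congr_fun (MonoidHom.mem_ker.1 hh) ⟨x, hx⟩)
        · induction q using QuotientGroup.induction_on with
          | _ h => rw [← QuotientGroup.mk_pow, h3, QuotientGroup.mk_one]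
        · induction q using QuotientGroup.induction_on with
          | _ h => exact (QuotientGroup.eq_one_iff h).2 (MonoidHom.mem_ker.2 (AddMonoidHom.ext hq))
      have hCinv : ∀ (h : R), ∀ x ∈ C, h • x ∈ C := fun h x (hx : g • x = x) => by
        show g • h • x = h • x
        rw [← mul_smul, mul_comm, mul_smul, hx]
      have hDinv : ∀ (h : R), ∀ x ∈ D, h • x ∈ D := fun h x (hx : x + g • x + g • g • x = 0) => by
        show h • x + g • h • x + g • g • h • x = 0
        have e : ∀ z : V, g • h • z = h • g • z := fun z => by rw [← mul_smul, mul_comm, mul_smul]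
        rw [e, e, ← smul_add, ← smul_add, hx, smul_zero]
      obtain ⟨K₁, j₁, hK₁, hj₁, hb₁⟩ := part C hCinv (by rw [← hn, ← hcard]; nlinarith)
      obtain ⟨K₂, j₂, hK₂, hj₂, hb₂⟩ := part D hDinv (by rw [← hn, ← hcard]; nlinarith)
      have hK : K₁ ⊓ K₂ = ⊥ := (Subgroup.eq_bot_iff_forall _).2 fun h hh => hf h fun x => by
        obtain ⟨e1, e2⟩ : h • ((φ x).1 : V) = (φ x).1 ∧ h • ((φ x).2 : V) = (φ x).2 :=
          ⟨hK₁ h hh.1 _ (φ x).1.2, hK₂ h hh.2 _ (φ x).2.2⟩
        have e3 : ((φ x).1 : V) + (φ x).2 = x := by
          show x + g • x + g • g • x + (x + (x + g • x + g • g • x)) = x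
          rw [show x + g • x + g • g • x + (x + (x + g • x + g • g • x)) =
            x + 2 • (x + g • x + g • g • x) by rw [two_nsmul]; abel, h2, add_zero]
        rw [← e3, smul_add, e1, e2]
      have hidx := Subgroup.index_inf_le (H := K₁) (K := K₂)
      rw [hK, Subgroup.index_bot, hi, hj₁, hj₂, ← pow_add] at hidx
      calc 4 ^ i ≤ 4 ^ (j₁ + j₂) :=
            Nat.pow_le_pow_right (by norm_num) ((Nat.pow_le_pow_iff_right (by norm_num)).1 hidx)
        _ = 4 ^ j₁ * 4 ^ j₂ := pow_add _ _ _
        _ ≤ _ := by rw [← hcard]; exact Nat.mul_le_mul hb₁ hb₂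
    · push Not at hfix
      obtain ⟨a, ha⟩ : ∃ a : R, a ≠ 1 := by
        by_contra hc
        push Not at hc
        haveI : Subsingleton R := ⟨fun p q => by rw [hc p, hc q]⟩
        rw [Nat.card_of_subsingleton (1 : R)] at hi
        exact (Nat.one_lt_pow hi0.ne' (by norm_num : (1 : ℕ) < 3)).ne hi
      obtain ⟨v, hv⟩ : ∃ v : V, v ≠ 0 := by
        by_contra hc
        push Not at hc
        exact ha (hf a fun x => by rw [hc x, smul_zero])
      have hz : ∀ g : R, g ≠ 1 → ∀ x : V, x + g • x + g • g • x = 0 := fun g hg x => by
        by_contra hne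
        exact hfix g hg _ hne (hsum g x)
      have hall : ∀ b : R, b = 1 ∨ b = a ∨ b = a * a := by
        intro b
        by_contra hc
        push Not at hc
        obtain ⟨hb1, hba, hbaa⟩ := hc
        have ha3 : a * a * a = 1 := by rw [← h3 a, pow_succ, pow_two]
        have hab : a * b ≠ 1 := fun e => hbaa (by rw [← one_mul b, ← ha3, mul_assoc, e, mul_one])
        have haab : a * a * b ≠ 1 := fun e => hba (by
          calc b = a * (a * a * b) := by rw [← mul_assoc, ← mul_assoc, ha3, one_mul]
            _ = a := by rw [e, mul_one])
        set w := v + a • v + a • a • v with hw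
        have hw0 : w = 0 := hz a ha v
        have key : v + v + v + (w + b • w + b • b • w) = 0 := by
          have e1 : v + b • v + b • b • v + (v + (a * b) • v + (a * b) • (a * b) • v) +
              (v + (a * a * b) • v + (a * a * b) • (a * a * b) • v) + (v + a • v + a • a • v) = 0 := by
            rw [hz b hb1, hz _ hab, hz _ haab, hz a ha]; simp
          rw [← e1]
          have c1 : (a * b) • (a * b) • v = (b * b * (a * a)) • v := by
            rw [← mul_smul, mul_mul_mul_comm, mul_comm]
          have c2 : (a * a * b) • (a * a * b) • v = (b * b * a) • v := by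
            rw [← mul_smul, mul_mul_mul_comm, show a * a * (a * a) = a by rw [← mul_assoc, ha3, one_mul],
              mul_comm]
          simp only [hw, smul_add, ← mul_smul] at c1 c2 ⊢
          rw [c1, c2, mul_comm a b, mul_comm (a * a) b]
          simp only [mul_assoc]
          abel
        rw [hw0] at key
        simp only [smul_zero, add_zero] at key
        rw [show v + v + v = 2 • v + v by rw [two_nsmul], h2, zero_add] at key
        exact hv key
      have hle : Nat.card R ≤ 3 := by
        haveI := Fintype.ofFinite R
        rw [Nat.card_eq_fintype_card, ← Finset.card_univ]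
        refine (Finset.card_le_card (t := ({1, a, a * a} : Finset R)) fun b _ => ?_).trans Finset.card_le_three
        rcases hall b with rfl | rfl | rfl <;> simp
      have hi1 : i = 1 := by
        rw [hi] at hle
        have := (Nat.pow_le_pow_iff_right (by norm_num : 1 < 3)).1 (hle.trans (pow_one 3).ge)
        omega
      subst hi1
      haveI := Fintype.ofFinite V
      have hne1 : v ≠ a • v := fun e => hfix a ha v hv e.symm
      have hne2 : v ≠ (a * a) • v := fun e => by
        have haa : a * a ≠ 1 := fun e' => ha (by
          have h := h3 a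
          rwa [pow_succ, pow_two, e', one_mul] at h)
        exact hfix _ haa v hv e.symm
      have hne3 : a • v ≠ (a * a) • v := fun e => by
        rw [mul_smul] at e
        exact hfix a ha (a • v) (fun h => hv ((smul_eq_zero_iff_eq a).1 h)) e.symm
      rw [pow_one, Nat.card_eq_fintype_card, ← Finset.card_univ]
      refine le_trans (le_of_eq ?_) (Finset.card_le_card (Finset.subset_univ ({0, v, a • v, (a * a) • v} : Finset V)))
      rw [Finset.card_insert_of_notMem, Finset.card_insert_of_notMem, Finset.card_pair hne3]
      · simp [hne1, hne2]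
      · simp [Ne.symm hv]
        exact ⟨fun h => hv ((smul_eq_zero_iff_eq a).1 h.symm),
          fun h => hv ((smul_eq_zero_iff_eq (a * a)).1 h.symm)⟩

end Cfsg.Agent.H38.KSolv
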