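import Mathlib
import Cfsg.Agent.H38.KSolv.IsoSmall
import Cfsg.Agent.H38.KSolv.Three

/-!
# Solvable isometry groups of pairings on 64 points
-/

set_option autoImplicit false
set_option linter.unusedSectionVars false
set_option linter.style.haveILetI false

namespace Cfsg.Agent.H38.KSolv

open Cfsg.Agent.H30.ClassFit
open scoped Classical
open MulAction

universe u w

variable {U : Type w} {V : Type u} [Group U] [AddCommGroup V] [Finite V] [DistribMulAction U V]

theorem pair_card_64 [Group.IsSolvable U] (A : IsoAct U V) (h2 : ∀ v : V, 2 • v = 0) (hV : Nat.card V = 64)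
    {v w : V} (hw : A.B.f v w ≠ 1) :
    Nat.card (stabilizer U (v, w)) ∣ 720 ∧ Nat.card (stabilizer U (v, w)) ≤ 144 :=
  A.step Nat.prime_two (h2 v) (h2 w) hw fun H hH _ A' => by
    subst hH
    refine iso16 A' (fun x => Subtype.ext (h2 x)) ?_
    have := (rest_data A.nondeg Nat.prime_two (h2 v) (h2 w) hw).2
    omega

theorem stab64_le [Group.IsSolvable U] (A : IsoAct U V) (h2 : ∀ v : V, 2 • v = 0) (hV : Nat.card V = 64) {v : V}
    (hv : v ≠ 0) : Nat.card (stabilizer U v) ≤ 4608 := by
  haveI := A.finite
  let Ω := {w : V // A.B.f v w ≠ 1}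
  letI : MulAction (stabilizer U v) Ω :=
    { smul := fun g w => ⟨(g : U) • w.1, fun h => w.2 (by
        have h1 := A.iso g v w.1
        rw [show (g : U) • v = v from g.2, h] at h1
        exact h1.symm)⟩
      one_smul := fun w => Subtype.ext (one_smul U w.1)
      mul_smul := fun g k w => Subtype.ext (mul_smul (g : U) (k : U) w.1) }
  have hc := card_partners A h2 hv
  have h32 : Nat.card Ω = 32 := by change Nat.card {w : V // A.B.f v w ≠ 1} = 32; omega
  haveI : Nonempty Ω := (Nat.card_pos_iff.1 (by omega)).1
  let ω : Ω := Classical.arbitrary Ω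
  have hst : Nat.card (stabilizer (stabilizer U v) ω) ≤ 144 := by
    refine le_trans ?_ (pair_card_64 A h2 hV ω.2).2
    refine Nat.card_le_card_of_injective (fun g => ⟨((g : stabilizer U v) : U), ?_⟩) ?_
    · exact Prod.ext (g : stabilizer U v).2 (congrArg Subtype.val g.2)
    · exact fun a b h => Subtype.ext (Subtype.ext
        (congrArg (fun z : stabilizer U ((v, ω.1) : V × V) => (z : U)) h))
  rw [← Nat.card_congr (orbitProdStabilizerEquivGroup (stabilizer U v) ω), Nat.card_prod]
  calc Nat.card (orbit (stabilizer U v) ω) * Nat.card (stabilizer (stabilizer U v) ω) ≤ 32 * 144 :=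
        Nat.mul_le_mul (h32 ▸ Nat.card_le_card_of_injective _ Subtype.val_injective) hst
    _ = 4608 := by norm_num

theorem card_le_of_invariant [Group.IsSolvable U] (A : IsoAct U V) (h2 : ∀ v : V, 2 • v = 0)
    (hV : Nat.card V = 64) (W : AddSubgroup V) (hW : ∀ g : U, ∀ v ∈ W, g • v ∈ W) (h0 : W ≠ ⊥)
    (h1 : Nat.card W ≤ 8) : Nat.card U ≤ 32256 := by
  haveI := A.finite
  obtain ⟨v, hv, hv0⟩ : ∃ v ∈ W, v ≠ 0 := by
    by_contra hc
    push Not at hc
    exact h0 ((AddSubgroup.eq_bot_iff_forall _).2 hc)
  haveI := Fintype.ofFinite W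
  have horb : Nat.card (orbit U v) ≤ 7 := by
    refine le_trans (Nat.card_le_card_of_injective
      (fun x => (⟨⟨x.1, ?_⟩, ?_⟩ : {w : W // w ≠ 0})) fun a b h =>
        Subtype.ext (congrArg (fun z : {w : W // w ≠ 0} => ((z.1 : W) : V)) h)) ?_
    · obtain ⟨g, hg⟩ := x.2; rw [← hg]; exact hW g v hv
    · obtain ⟨g, hg⟩ := x.2
      intro h
      exact hv0 ((smul_eq_zero_iff_eq g).1 ((show g • v = x.1 from hg).trans (congrArg Subtype.val h)))
    · rw [Nat.card_eq_fintype_card, Fintype.card_subtype_compl, Fintype.card_subtype_eq,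
        ← Nat.card_eq_fintype_card]
      omega
  rw [← Nat.card_congr (orbitProdStabilizerEquivGroup U v), Nat.card_prod]
  calc Nat.card (orbit U v) * Nat.card (stabilizer U v) ≤ 7 * 4608 :=
        Nat.mul_le_mul horb (stab64_le A h2 hV hv0)
    _ = 32256 := by norm_num

/-- Sixty-four points. -/
theorem iso64 [Group.IsSolvable U] (A : IsoAct U V) (h2 : ∀ v : V, 2 • v = 0) (hV : Nat.card V = 64) :
    Nat.card U ≤ 41472 := by
  haveI := A.finite
  by_cases hred : ∃ W : AddSubgroup V, W ≠ ⊥ ∧ W ≠ ⊤ ∧ ∀ g : U, ∀ v ∈ W, g • v ∈ W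
  · obtain ⟨W, h0, h1, hW⟩ := hred
    refine le_trans ?_ (by norm_num : 32256 ≤ 41472)
    have hp := Alt.card_mul_card_perp A.nondeg W
    rcases le_or_gt (Nat.card W) 8 with h | h
    · exact card_le_of_invariant A h2 hV W hW h0 h
    · refine card_le_of_invariant A h2 hV (A.B.perp (W : Set V)) (fun g v hv u hu => ?_) (fun hb => ?_) ?_
      · rw [← smul_inv_smul g u, A.iso]
        exact hv _ (hW g⁻¹ u hu)
      · rw [hb, AddSubgroup.card_bot, mul_one] at hp
        exact h1 (AddSubgroup.eq_top_of_card_eq _ hp)
      · rw [hV] at hp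
        by_contra hc
        push Not at hc
        nlinarith
  push Not at hred
  have hirr : ∀ W : AddSubgroup V, (∀ g : U, ∀ v ∈ W, g • v ∈ W) → W ≠ ⊥ → W = ⊤ := by
    intro W hW h0
    by_contra h1
    obtain ⟨g, v, hv, hn⟩ := hred W h0 h1
    exact hn (hW g v hv)
  have hO2 : Cfsg.pCore 2 U = ⊥ := by
    by_contra hne
    have htop := hirr _ (fun g v hv => fixedBy_invariant g hv)
      (fixedBy_ne_bot A (N := Cfsg.pCore 2 U) Cfsg.Agent.Cores.pCore_isPGroup (by rw [hV]; norm_num))
    exact hne ((Subgroup.eq_bot_iff_forall _).2 fun g hg => A.faith g fun v =>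
      (htop ▸ AddSubgroup.mem_top v : v ∈ fixedBy (V := V) (Cfsg.pCore 2 U)) g hg)
  have d720 : ∀ (r c : ℕ), ¬ r ^ c ∣ 720 → ∀ v w : V, A.B.f v w ≠ 1 →
      ¬ r ^ c ∣ Nat.card (stabilizer U (v, w)) :=
    fun r c h v w hw hd => h (hd.trans (pair_card_64 A h2 hV hw).1)
  have hb2 : ¬ 2 ^ 10 ∣ Nat.card U := by
    haveI := Fact.mk Nat.prime_two
    exact nonzero_step (V := V) (j := 0) (c := 9) (by rw [hV]; norm_num) fun v hv =>
      partner_step (j := 5) (c := 4) A h2 hv (by rw [hV]; norm_num) fun w hw => d720 2 5 (by norm_num) v w hw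
  have hb3 : ¬ 3 ^ 5 ∣ Nat.card U := by
    haveI := Fact.mk Nat.prime_three
    exact nonzero_step (V := V) (j := 2) (c := 2) (by rw [hV]; norm_num) fun v hv =>
      partner_step (j := 0) (c := 2) A h2 hv (by rw [hV]; norm_num) fun w hw => d720 3 3 (by norm_num) v w hw
  have hb5 : ¬ 5 ^ 2 ∣ Nat.card U := by
    haveI := Fact.mk (show Nat.Prime 5 by norm_num)
    exact nonzero_step (V := V) (j := 0) (c := 1) (by rw [hV]; norm_num) fun v hv =>
      partner_step (j := 0) (c := 1) A h2 hv (by rw [hV]; norm_num) fun w hw => d720 5 2 (by norm_num) v w hw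
  have hst7 : ∀ r : ℕ, r.Prime → 7 ≤ r → ∀ v : V, v ≠ 0 → ¬ r ∣ Nat.card (stabilizer U v) := by
    intro r hr h7 v hv
    haveI := Fact.mk hr
    have h32 : ¬ r ∣ 32 := fun h => by
      have := Nat.le_of_dvd (by norm_num) (hr.dvd_of_dvd_pow (show r ∣ 2 ^ 5 from h))
      omega
    have h720 : ¬ r ∣ 720 := fun h => by
      rcases (hr.dvd_mul).1 (show r ∣ 16 * 45 from h) with h' | h'
      · have := Nat.le_of_dvd (by norm_num) (hr.dvd_of_dvd_pow (show r ∣ 2 ^ 4 from h'))
        omega
      · rcases (hr.dvd_mul).1 (show r ∣ 9 * 5 from h') with h'' | h''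
        · have := Nat.le_of_dvd (by norm_num) (hr.dvd_of_dvd_pow (show r ∣ 3 ^ 2 from h''))
          omega
        · have := Nat.le_of_dvd (by norm_num) h''
          omega
    simpa using partner_step (r := r) (j := 0) (c := 0) A h2 hv (by rw [hV]; simpa using h32)
      fun w hw => d720 r 1 (by simpa using h720) v w hw
  have hb7 : ¬ 7 ^ 2 ∣ Nat.card U := by
    haveI := Fact.mk (show Nat.Prime 7 by norm_num)
    exact nonzero_step (V := V) (j := 1) (c := 0) (by rw [hV]; norm_num) fun v hv h =>
      hst7 7 (by norm_num) le_rfl v hv (by simpa using h)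
  have hb : ∀ r : ℕ, r.Prime → 11 ≤ r → ¬ r ∣ Nat.card U := by
    intro r hr h11
    haveI := Fact.mk hr
    have h63 : ¬ r ∣ 63 := fun h => by
      rcases (hr.dvd_mul).1 (show r ∣ 9 * 7 from h) with h' | h'
      · have := Nat.le_of_dvd (by norm_num) (hr.dvd_of_dvd_pow (show r ∣ 3 ^ 2 from h'))
        omega
      · have := Nat.le_of_dvd (by norm_num) h'
        omega
    simpa using nonzero_step (U := U) (V := V) (r := r) (j := 0) (c := 0) (by rw [hV]; simpa using h63)
      fun v hv h => hst7 r hr (by omega) v hv (by simpa using h)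
  -- an element of order five or seven centralises the other cores
  have hcom : ∀ r : ℕ, (r = 5 ∨ r = 7) → ∀ y : U, orderOf y = r →
      Subgroup.zpowers y = Cfsg.pCore r U := by
    intro r hr57 y hy
    have hr : r.Prime := by rcases hr57 with rfl | rfl <;> norm_num
    haveI := Fact.mk hr
    have hyr : y ^ r = 1 := hy ▸ pow_orderOf_eq_one y
    refine zpowers_eq_pCore hy (by rcases hr57 with rfl | rfl; exacts [hb5, hb7]) fun q hq hqr => ?_
    haveI := Fact.mk hq
    rcases eq_or_ne q 2 with rfl | hq2
    · intro x hx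
      rw [hO2, Subgroup.mem_bot] at hx
      rw [hx]; exact Commute.one_right y
    rcases eq_or_ne q 3 with rfl | hq3
    · rcases hr57 with rfl | rfl
      · set R := Cfsg.pCore 3 U with hRdef
        have hR : IsPGroup 3 R := Cfsg.Agent.Cores.pCore_isPGroup
        by_cases h81 : 3 ^ 4 ∣ Nat.card R
        swap
        · exact commute_of_small_card hR (B := 3) h81
            (fun i h1 h2 => by interval_cases i <;> (intro h; simp [Nat.ModEq] at h)) hqr hyr
        by_cases hcR : ∀ x ∈ R, Commute y x
        · exact hcR
        exfalso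
        have hR81 : Nat.card R = 3 ^ 4 := by
          obtain ⟨b, hb'⟩ := IsPGroup.iff_card.1 hR
          rw [hb'] at h81 ⊢
          have h1 : 4 ≤ b := (Nat.pow_dvd_pow_iff_le_right (by norm_num)).1 h81
          have h2 : b ≤ 4 := by
            by_contra hlt
            exact hb3 ((pow_dvd_pow 3 (by omega)).trans (hb' ▸ Subgroup.card_subgroup_dvd_card R))
          rw [show b = 4 by omega]
        have hfix1 : ∀ x ∈ R, Commute y x → x = 1 := by
          intro x hx hxy
          by_contra hx1
          have hmod := card_centralizer_modEq (R := R) hyr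
          set F := (Subgroup.centralizer ({y} : Set U)).subgroupOf R with hF
          have hd : Nat.card F ∣ 3 ^ 4 := hR81 ▸ Subgroup.card_subgroup_dvd_card F
          obtain ⟨a, ha4, ha⟩ := (Nat.dvd_prime_pow Nat.prime_three).1 hd
          rw [hR81, ha] at hmod
          interval_cases a
          · have h1 : F = ⊥ := Subgroup.eq_bot_of_card_eq _ (by rw [ha, pow_zero])
            have h2 : (⟨x, hx⟩ : R) ∈ F :=
              Subgroup.mem_subgroupOf.2 (Subgroup.mem_centralizer_singleton_iff.2 hxy.symm.eq)
            rw [h1, Subgroup.mem_bot] at h2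
            exact hx1 (congrArg Subtype.val h2)
          · simp [Nat.ModEq] at hmod
          · simp [Nat.ModEq] at hmod
          · simp [Nat.ModEq] at hmod
          · have h1 : F = ⊤ := Subgroup.eq_top_of_card_eq _ (by rw [ha, hR81])
            refine hcR fun z hz => ?_
            exact (show Commute z y from Subgroup.mem_centralizer_singleton_iff.1 (Subgroup.mem_subgroupOf.1
              (h1 ▸ Subgroup.mem_top (⟨z, hz⟩ : R)))).symm
        have hsmall : ∀ S : Subgroup U, S.Normal → S ≤ R → S ≠ R → S = ⊥ := by
          intro S hS hle hne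
          haveI := hS
          refine (Subgroup.eq_bot_iff_forall _).2 fun x hx => hfix1 x (hle hx)
            (commute_of_small_card (hR.to_le hle) (B := 3) (fun hd => hne ?_)
            (fun i h1 h2 => by interval_cases i <;> (intro h; simp [Nat.ModEq] at h)) hqr hyr x hx)
          exact Subgroup.eq_of_le_of_card_ge hle (by rw [hR81]; exact Nat.le_of_dvd Nat.card_pos hd)
        haveI : Nontrivial R := Finite.one_lt_card_iff_nontrivial.1 (by rw [hR81]; norm_num)
        have hcomm : ∀ a b : R, a * b = b * a := by
          haveI := hR.center_nontrivial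
          have hZ : (Subgroup.center R).map R.subtype = R := by
            by_contra hne
            have h := hsmall _ inferInstance (Subgroup.map_subtype_le _) hne
            exact (Subgroup.nontrivial_iff_ne_bot (Subgroup.center R)).1 inferInstance
              ((Subgroup.map_eq_bot_iff_of_injective _ R.subtype_injective).1 h)
          intro a b
          obtain ⟨z, hz, hze⟩ := hZ.ge a.2
          rw [← (Subtype.ext hze : z = a)]
          exact (Subgroup.mem_center_iff.1 hz b).symm
        let Ω : Subgroup U :=
          { carrier := {x | x ∈ R ∧ x ^ 3 = 1}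
            mul_mem' := fun {a b} ha hb => ⟨mul_mem ha.1 hb.1, by
              rw [(show Commute a b from congrArg Subtype.val (hcomm ⟨a, ha.1⟩ ⟨b, hb.1⟩)).mul_pow,
                ha.2, hb.2, one_mul]⟩
            one_mem' := ⟨one_mem R, one_pow 3⟩
            inv_mem' := fun {a} ha => ⟨inv_mem ha.1, by rw [inv_pow, ha.2, inv_one]⟩ }
        have hΩn : Ω.Normal := ⟨fun x hx g => ⟨(inferInstance : R.Normal).conj_mem x hx.1 g, by
          rw [conj_pow, hx.2]; group⟩⟩
        have hΩ : Ω = R := by
          by_contra hne
          have h := hsmall Ω hΩn (fun x hx => hx.1) hne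
          haveI := Fact.mk Nat.prime_three
          obtain ⟨x, hx⟩ := exists_prime_orderOf_dvd_card' (G := R) 3 (by rw [hR81]; norm_num)
          have h1 : (x : U) ∈ Ω := ⟨x.2, by rw [← Subgroup.coe_pow, ← hx, pow_orderOf_eq_one, Subgroup.coe_one]⟩
          rw [h, Subgroup.mem_bot] at h1
          rw [show x = 1 from Subtype.ext h1, orderOf_one] at hx
          omega
        letI : CommGroup R := { (inferInstance : Group R) with mul_comm := hcomm }
        have := four_pow_le (Nat.card V) R V rfl
          (fun g => Subtype.ext (hΩ.ge g.2).2) h2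
          (fun g hg => Subtype.ext (A.faith g hg)) 4 hR81
        rw [hV] at this
        norm_num at this
      · exact commute_of_small Cfsg.Agent.Cores.pCore_isPGroup (B := 4) hb3
          (fun i h1 h2 => by interval_cases i <;> (intro h; simp [Nat.ModEq] at h)) hqr hyr
    rcases eq_or_ne q 5 with rfl | hq5
    · exact commute_of_small Cfsg.Agent.Cores.pCore_isPGroup (B := 1) hb5
        (fun i h1 h2 => by
          interval_cases i
          rcases hr57 with rfl | rfl
          · exact absurd rfl hqr
          · intro h; simp [Nat.ModEq] at h) hqr hyr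
    rcases eq_or_ne q 7 with rfl | hq7
    · exact commute_of_small Cfsg.Agent.Cores.pCore_isPGroup (B := 1) hb7
        (fun i h1 h2 => by
          interval_cases i
          rcases hr57 with rfl | rfl
          · intro h; simp [Nat.ModEq] at h
          · exact absurd rfl hqr) hqr hyr
    · have h11 : 11 ≤ q := by
        by_contra hlt
        have := hq.two_le
        interval_cases q <;> first | omega | exact absurd hq (by norm_num)
      exact commute_of_small Cfsg.Agent.Cores.pCore_isPGroup (B := 0)
        (by simpa using hb q hq h11) (fun i h1 h2 => by omega) hqr hyr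
  by_cases h5 : 5 ∣ Nat.card U
  · exfalso
    haveI := Fact.mk (show Nat.Prime 5 by norm_num)
    obtain ⟨y, hy⟩ := exists_prime_orderOf_dvd_card' (G := U) 5 h5
    have hyr : y ^ 5 = 1 := hy ▸ pow_orderOf_eq_one y
    haveI : (Subgroup.zpowers y).Normal := hcom 5 (Or.inl rfl) y hy ▸ inferInstance
    obtain ⟨v, hv, hv0⟩ : ∃ v : V, y • v = v ∧ v ≠ 0 := by
      by_contra hc
      push Not at hc
      have := card_modEq_one hyr (⊤ : AddSubgroup V) (fun v _ => AddSubgroup.mem_top _)
        fun v _ h => hc v h
      rw [AddSubgroup.card_top, hV] at this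
      exact absurd this (by simp [Nat.ModEq])
    have hmem : v ∈ fixedBy (V := V) (Subgroup.zpowers y) := fun g hg => by
      obtain ⟨k, rfl⟩ := Subgroup.mem_zpowers_iff.1 hg
      exact zpow_mem (show y ∈ stabilizer U v from hv) k
    have htop := hirr _ (fun g x hx => fixedBy_invariant g hx) fun h => hv0 (by
      rwa [h, AddSubgroup.mem_bot] at hmem)
    have h1 : y = 1 := A.faith y fun x => (htop ▸ AddSubgroup.mem_top x :
      x ∈ fixedBy (V := V) (Subgroup.zpowers y)) y (Subgroup.mem_zpowers y)
    rw [h1, orderOf_one] at hy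
    omega
  by_cases h7 : 7 ∣ Nat.card U
  · haveI := Fact.mk (show Nat.Prime 7 by norm_num)
    obtain ⟨y, hy⟩ := exists_prime_orderOf_dvd_card' (G := U) 7 h7
    have hyr : y ^ 7 = 1 := hy ▸ pow_orderOf_eq_one y
    haveI : (Subgroup.zpowers y).Normal := hcom 7 (Or.inr rfl) y hy ▸ inferInstance
    have hfpf : ∀ v : V, y • v = v → v = 0 := by
      intro v hv
      by_contra hv0
      refine hst7 7 (by norm_num) le_rfl v hv0 ?_
      rw [← hy, ← Subgroup.orderOf_mk y (show y ∈ stabilizer U v from hv)]
      exact orderOf_dvd_natCard _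
    haveI : Nontrivial V := Finite.one_lt_card_iff_nontrivial.1 (by omega)
    obtain ⟨v, hv⟩ := exists_ne (0 : V)
    haveI := Fintype.ofFinite V
    let S : Finset V := insert 0 ((Finset.range 7).image fun i => y ^ i • v)
    have hScard : S.card = 8 := by
      rw [Finset.card_insert_of_notMem, Finset.card_image_of_injOn, Finset.card_range]
      · have aux : ∀ i j : ℕ, i < j → j < 7 → y ^ i • v ≠ y ^ j • v := by
          intro i j hlt hj hij
          have h1 : y ^ (j - i) • v = v := by
            have e : y ^ j • v = y ^ i • (y ^ (j - i) • v) := by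
              rw [← mul_smul, ← pow_add, Nat.add_sub_cancel' hlt.le]
            rw [← hij] at e
            exact (MulAction.injective (y ^ i) e).symm
          have hco : Nat.Coprime (j - i) (orderOf y) := by
            rw [hy, Nat.coprime_comm]
            exact (show Nat.Prime 7 by norm_num).coprime_iff_not_dvd.2 fun hd => by
              have := Nat.le_of_dvd (by omega) hd
              omega
          obtain ⟨m, hm⟩ := exists_pow_eq_self_of_coprime hco
          refine hv (hfpf v ?_)
          rw [← hm]
          exact pow_mem (show y ^ (j - i) ∈ stabilizer U v from h1) m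
        intro i hi j hj hij
        simp only [Finset.coe_range, Set.mem_Iio] at hi hj
        rcases lt_trichotomy i j with h | h | h
        · exact absurd hij (aux i j h hj)
        · exact h
        · exact absurd hij.symm (aux j i h hi)
      · simp only [Finset.mem_image, Finset.mem_range, not_exists, not_and]
        exact fun i _ h => hv ((smul_eq_zero_iff_eq _).1 h)
    obtain ⟨w, hw, hwS⟩ : ∃ w : V, A.B.f v w ≠ 1 ∧ w ∉ S := by
      by_contra hc
      push Not at hc
      have hle : Nat.card {w : V // A.B.f v w ≠ 1} ≤ S.card := by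
        rw [← Nat.card_eq_finsetCard]
        exact Nat.card_le_card_of_injective (fun w => ⟨w.1, hc w.1 w.2⟩) fun a b h =>
          Subtype.ext (congrArg (fun z : S => (z : V)) h)
      have := card_partners A h2 hv
      omega
    have hC : Nat.card (Subgroup.centralizer ({y} : Set U)) ≤ 64 * 64 := by
      rw [← hV, ← Nat.card_prod]
      refine Nat.card_le_card_of_injective (fun g => (((g : U) • v, (g : U) • w) : V × V)) fun g k h => ?_
      obtain ⟨hgv, hgw⟩ : (g : U) • v = (k : U) • v ∧ (g : U) • w = (k : U) • w := Prod.mk.inj h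
      refine Subtype.ext (inv_mul_eq_one.1 (A.faith _ fun x => ?_))
      set d := (g : U)⁻¹ * k with hd
      have hc : d * y = y * d :=
        Subgroup.mem_centralizer_singleton_iff.1 (Subgroup.mul_mem _ (inv_mem g.2) k.2)
      have hdv : v ∈ fixedOf (V := V) d := by rw [mem_fixedOf, hd, mul_smul, ← hgv, inv_smul_smul]
      have hdw : w ∈ fixedOf (V := V) d := by rw [mem_fixedOf, hd, mul_smul, ← hgw, inv_smul_smul]
      have hmod : Nat.card (fixedOf (V := V) d) % 7 = 1 := card_modEq_one hyr _
        (fun z hz => fixedOf_smul hc hz) fun z _ => hfpf z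
      obtain ⟨k', hk', hFk⟩ := (Nat.dvd_prime_pow Nat.prime_two).1
        ((AddSubgroup.card_addSubgroup_dvd_card (fixedOf (V := V) d)).trans (dvd_of_eq (hV.trans (by norm_num : (64 : ℕ) = 2 ^ 6))))
      have hS : insert w S ⊆ (Finset.univ : Finset V).filter fun z => z ∈ fixedOf (V := V) d := by
        intro z hz
        rw [Finset.mem_filter]
        refine ⟨Finset.mem_univ _, ?_⟩
        simp only [S, Finset.mem_insert, Finset.mem_image] at hz
        rcases hz with rfl | rfl | ⟨i, -, rfl⟩
        · exact hdw
        · exact zero_mem _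
        · clear * - hc hdv
          induction i with
          | zero => rwa [pow_zero, one_smul]
          | succ i ih => rw [pow_succ', mul_smul]; exact fixedOf_smul hc ih
      have h9 : 9 ≤ Nat.card (fixedOf (V := V) d) := by
        refine le_trans ?_ (le_trans (Finset.card_le_card hS) (le_of_eq ?_))
        · rw [Finset.card_insert_of_notMem hwS, hScard]
        · rw [Nat.card_eq_fintype_card, ← Fintype.card_subtype]
      have htop : fixedOf (V := V) d = ⊤ := by
        refine AddSubgroup.eq_top_of_card_eq _ ?_
        interval_cases k'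
        all_goals rw [hFk, hV]
        all_goals rw [hFk] at hmod h9
        all_goals norm_num at h9
        all_goals norm_num at hmod
        norm_num
      exact (htop ▸ AddSubgroup.mem_top x : x ∈ fixedOf (V := V) d)
    have := card_le_of_normal_zpowers (U := U) (show Nat.Prime 7 by norm_num) hy
    omega
  · have hdvd : Nat.card U ∣ 41472 := by
      refine dvd_of_pow_not_dvd Nat.card_pos.ne' (by norm_num) fun r hr hd => ?_
      rcases lt_or_ge r 11 with hlt | hge
      · interval_cases r
        all_goals first
          | (norm_num at hr; done)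
          | exact h5 ((dvd_pow_self 5 (Nat.succ_ne_zero _)).trans hd)
          | exact h7 ((dvd_pow_self 7 (Nat.succ_ne_zero _)).trans hd)
          | exact hb2 ((pow_dvd_pow 2 (show 10 ≤ Nat.factorization 41472 2 + 1 by
              have := (Nat.prime_two.pow_dvd_iff_le_factorization (show (41472 : ℕ) ≠ 0 by norm_num)).1
                (show 2 ^ 9 ∣ 41472 by norm_num)
              omega)).trans hd)
          | exact hb3 ((pow_dvd_pow 3 (show 5 ≤ Nat.factorization 41472 3 + 1 by
              have := (Nat.prime_three.pow_dvd_iff_le_factorization (show (41472 : ℕ) ≠ 0 by norm_num)).1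
                (show 3 ^ 4 ∣ 41472 by norm_num)
              omega)).trans hd)
      · exact hb r hr hge ((dvd_pow_self r (Nat.succ_ne_zero _)).trans hd)
    exact Nat.le_of_dvd (by norm_num) hdvd

end Cfsg.Agent.H38.KSolv
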