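import Mathlib
import Cfsg.Agent.H38.KSolv.Iso64

/-!
# Solvable isometry groups of pairings of squarefree exponent
-/

set_option autoImplicit false
set_option linter.unusedSectionVars false
set_option linter.style.haveILetI false

namespace Cfsg.Agent.H38.KSolv

open Cfsg.Agent.H30.ClassFit
open scoped Classical
open MulAction

universe u w

/-- The bound carried by the recursion. -/
def IsoB (e M : ℕ) : Prop :=
  (e = 1 → M = 1) ∧ (e = 2 → M ≤ 6) ∧ (e = 3 → M ≤ 24) ∧ (e = 4 → M ≤ 144 ∧ M ∣ 720) ∧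
    (5 ≤ e → e ^ 2 * M ≤ 9 ^ (e - 1))

theorem pow5_le {s : ℕ} (hs : 5 ≤ s) : s ^ 5 ≤ 9 ^ (s - 1) := by
  induction s, hs using Nat.le_induction with
  | base => norm_num
  | succ n hn ih =>
    have h1 : (4 * (n + 1)) ^ 5 ≤ (5 * n) ^ 5 := Nat.pow_le_pow_left (by omega) 5
    rw [mul_pow, mul_pow 5] at h1
    have e : n + 1 - 1 = (n - 1) + 1 := by omega
    rw [e, pow_succ (n := n - 1)]
    have h2 : (n + 1) ^ 5 ≤ n ^ 5 * 9 := by
      have : (4 : ℕ) ^ 5 * (n + 1) ^ 5 ≤ 5 ^ 5 * n ^ 5 := h1
      omega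
    exact h2.trans (Nat.mul_le_mul_right 9 ih)

theorem step_arith {s e : ℕ} (hs : 2 ≤ s) (he : 5 ≤ e) : (s * e) ^ 4 * s ≤ 9 ^ (e * (s - 1)) := by
  induction e, he using Nat.le_induction with
  | base =>
    induction s, hs using Nat.le_induction with
    | base => norm_num
    | succ n hn ih =>
      have h1 : (2 * (n + 1)) ^ 5 ≤ (3 * n) ^ 5 := Nat.pow_le_pow_left (by omega) 5
      rw [mul_pow, mul_pow 3] at h1
      have h2 : (n + 1) ^ 5 ≤ n ^ 5 * 59049 := by omega
      have e : 5 * (n + 1 - 1) = 5 * (n - 1) + 5 := by omega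
      rw [e, pow_add]
      calc ((n + 1) * 5) ^ 4 * (n + 1) = 625 * (n + 1) ^ 5 := by ring
        _ ≤ 625 * (n ^ 5 * 59049) := Nat.mul_le_mul_left _ h2
        _ = ((n * 5) ^ 4 * n) * 9 ^ 5 := by ring
        _ ≤ _ := Nat.mul_le_mul_right _ ih
  | succ n hn ih =>
    have h1 : (5 * (n + 1)) ^ 4 ≤ (6 * n) ^ 4 := Nat.pow_le_pow_left (by omega) 4
    rw [mul_pow, mul_pow 6] at h1
    have h2 : (n + 1) ^ 4 ≤ 9 * n ^ 4 := by omega
    have e : (n + 1) * (s - 1) = n * (s - 1) + (s - 1) := by ring
    rw [e, pow_add]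
    have h9 : 9 ≤ 9 ^ (s - 1) := by
      calc 9 = 9 ^ 1 := by norm_num
        _ ≤ _ := Nat.pow_le_pow_right (by norm_num) (by omega)
    calc (s * (n + 1)) ^ 4 * s = s ^ 4 * s * (n + 1) ^ 4 := by ring
      _ ≤ s ^ 4 * s * (9 * n ^ 4) := Nat.mul_le_mul_left _ h2
      _ = (s * n) ^ 4 * s * 9 := by ring
      _ ≤ _ := Nat.mul_le_mul ih h9

theorem isoB_step {s e m M A : ℕ} (hs : s.Prime) (he : 1 ≤ e) (h2 : s * e ≠ 2) (h4 : s * e ≠ 4)
    (h8 : s * e ≠ 8) (hm : IsoB e m) (hA : A ∣ (s * e) ^ 2) (hA2 : ¬ s ∣ e → A ∣ s ^ 2)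
    (hM : M * s ≤ (A - 1) * A * m) : IsoB (s * e) M := by
  obtain ⟨e1, e2, e3, e4, e5⟩ := hm
  have hs2 := hs.two_le
  have hApos : 0 < (s * e) ^ 2 := by positivity
  have hA' : A ≤ (s * e) ^ 2 := Nat.le_of_dvd hApos hA
  have hge : 2 ≤ s * e := le_trans hs2 (Nat.le_mul_of_pos_right s he)
  refine ⟨fun h => by omega, fun h => absurd h h2, fun h3 => ?_, fun h => absurd h h4, fun h5 => ?_⟩
  · obtain rfl : s = 3 := by
      have h : s ≤ 3 := h3 ▸ Nat.le_mul_of_pos_right s he
      interval_cases s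
      · omega
      · rfl
    obtain rfl : e = 1 := by omega
    rw [e1 rfl] at hM
    have : A ≤ 9 := hA'
    interval_cases A <;> omega
  have hMA : M * s ≤ A * A * m := hM.trans (Nat.mul_le_mul_right _ (Nat.mul_le_mul_right _ (Nat.sub_le _ _)))
  refine Nat.le_of_mul_le_mul_right ?_ hs.pos
  rw [show (s * e) ^ 2 * M * s = (s * e) ^ 2 * (M * s) by ring]
  refine le_trans (Nat.mul_le_mul_left _ hMA) ?_
  rcases lt_or_ge e 5 with he5 | he5
  · interval_cases e
    · rw [e1 rfl]
      have hAs : A ≤ s ^ 2 := by simpa using hA'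
      have hp := pow5_le (s := s) (by omega)
      calc (s * 1) ^ 2 * (A * A * 1) ≤ (s * 1) ^ 2 * (s ^ 2 * s ^ 2 * 1) := by gcongr
        _ = s ^ 5 * s := by ring
        _ ≤ 9 ^ (s * 1 - 1) * s := by rw [mul_one]; exact Nat.mul_le_mul_right _ hp
    · have hm6 := e2 rfl
      rcases Nat.lt_or_ge s 5 with hlt | hs5
      · obtain rfl : s = 3 := by
          interval_cases s
          · omega
          · rfl
          · exact absurd hs (by norm_num)
        have hA9 : A ≤ 9 := Nat.le_of_dvd (by norm_num) (hA2 (by norm_num))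
        calc (3 * 2) ^ 2 * (A * A * m) ≤ (3 * 2) ^ 2 * (9 * 9 * 6) := by gcongr
          _ ≤ _ := by norm_num
      · have hp := pow5_le hs5
        calc (s * 2) ^ 2 * (A * A * m) ≤ (s * 2) ^ 2 * ((s * 2) ^ 2 * (s * 2) ^ 2 * 6) := by gcongr
          _ = 384 * (s ^ 5 * s) := by ring
          _ ≤ 9 ^ s * (9 ^ (s - 1) * s) := by
              refine Nat.mul_le_mul ?_ (Nat.mul_le_mul_right _ hp)
              calc 384 ≤ 9 ^ 5 := by norm_num
                _ ≤ _ := Nat.pow_le_pow_right (by norm_num) hs5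
          _ = _ := by rw [← mul_assoc, ← pow_add]; congr 2; omega
    · have hm24 := e3 rfl
      rcases Nat.lt_or_ge s 5 with hlt | hs5
      · interval_cases s
        · have hA4 : A ≤ 4 := Nat.le_of_dvd (by norm_num) (hA2 (by norm_num))
          calc (2 * 3) ^ 2 * (A * A * m) ≤ (2 * 3) ^ 2 * (4 * 4 * 24) := by gcongr
            _ ≤ _ := by norm_num
        · calc (3 * 3) ^ 2 * (A * A * m) ≤ (3 * 3) ^ 2 * (81 * 81 * 24) := by
                gcongr <;> simpa using hA'
            _ ≤ _ := by norm_num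
        · exact absurd hs (by norm_num)
      · have hp := pow5_le hs5
        calc (s * 3) ^ 2 * (A * A * m) ≤ (s * 3) ^ 2 * ((s * 3) ^ 2 * (s * 3) ^ 2 * 24) := by gcongr
          _ = 17496 * (s ^ 5 * s) := by ring
          _ ≤ 9 ^ (2 * s) * (9 ^ (s - 1) * s) := by
              refine Nat.mul_le_mul ?_ (Nat.mul_le_mul_right _ hp)
              calc 17496 ≤ 9 ^ 10 := by norm_num
                _ ≤ _ := Nat.pow_le_pow_right (by norm_num) (by omega)
          _ = _ := by rw [← mul_assoc, ← pow_add]; congr 2; omega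
    · have hm144 := (e4 rfl).1
      rcases Nat.lt_or_ge s 5 with hlt | hs5
      · interval_cases s
        · omega
        · calc (3 * 4) ^ 2 * (A * A * m) ≤ (3 * 4) ^ 2 * (144 * 144 * 144) := by
                gcongr <;> simpa using hA'
            _ ≤ _ := by norm_num
        · exact absurd hs (by norm_num)
      · have hp := pow5_le hs5
        calc (s * 4) ^ 2 * (A * A * m) ≤ (s * 4) ^ 2 * ((s * 4) ^ 2 * (s * 4) ^ 2 * 144) := by gcongr
          _ = 589824 * (s ^ 5 * s) := by ring
          _ ≤ 9 ^ (3 * s) * (9 ^ (s - 1) * s) := by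
              refine Nat.mul_le_mul ?_ (Nat.mul_le_mul_right _ hp)
              calc 589824 ≤ 9 ^ 15 := by norm_num
                _ ≤ _ := Nat.pow_le_pow_right (by norm_num) (by omega)
          _ = _ := by rw [← mul_assoc, ← pow_add]; congr 2; omega
  · have hb := e5 he5
    have hst := step_arith hs2 he5
    calc (s * e) ^ 2 * (A * A * m) ≤ (s * e) ^ 2 * ((s * e) ^ 2 * (s * e) ^ 2 * m) := by gcongr
      _ = (s * e) ^ 4 * s * s * (e ^ 2 * m) := by ring
      _ ≤ 9 ^ (e * (s - 1)) * s * 9 ^ (e - 1) := by gcongr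
      _ = _ := by
          rw [mul_right_comm, ← pow_add]
          congr 2
          have : e ≤ s * e := Nat.le_mul_of_pos_left e hs.pos
          have h' : e * (s - 1) = s * e - e := by rw [Nat.mul_sub, mul_one, mul_comm]
          omega

theorem torsion_two {V : Type*} [AddCommGroup V] [Finite V] {R k : ℕ} (hR : Squarefree R)
    (hV : ∀ v : V, R • v = 0) (hcard : Nat.card V = 2 ^ k) (v : V) : 2 • v = 0 := by
  obtain ⟨i, -, hi⟩ := (Nat.dvd_prime_pow Nat.prime_two).1 (hcard ▸ addOrderOf_dvd_natCard v)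
  have h1 : Squarefree (2 ^ i) := hi ▸ hR.squarefree_of_dvd (addOrderOf_dvd_of_nsmul_eq_zero (hV v))
  have h2 : i ≤ 1 := by
    by_contra hlt
    have := h1 2 (by rw [← pow_two]; exact pow_dvd_pow 2 (by omega))
    simp at this
  exact addOrderOf_dvd_iff_nsmul_eq_zero.1 (hi ▸ (pow_dvd_pow 2 h2).trans (dvd_of_eq (pow_one 2)))

theorem exists_isoB : ∀ (n : ℕ) (V : Type u) [AddCommGroup V] [Finite V] (U : Type w) [Group U]
    [DistribMulAction U V] [Group.IsSolvable U], IsoAct U V → Nat.card V = n →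
    (∃ R : ℕ, Squarefree R ∧ ∀ v : V, R • v = 0) → ∃ e, Nat.card V = e ^ 2 ∧ IsoB e (Nat.card U) := by
  intro n
  induction n using Nat.strong_induction_on with
  | _ n ih =>
    intro V _ _ U _ _ _ A hn hexp
    haveI := A.finite
    rcases subsingleton_or_nontrivial V with hs | hnt
    · have h1 : Nat.card V = 1 := Nat.card_of_subsingleton 0
      exact ⟨1, by rw [h1]; rfl, fun _ => card_eq_one_of_one A h1, fun h => by omega,
        fun h => by omega, fun h => by omega, fun h => by omega⟩
    obtain ⟨R, hR, hRV⟩ := hexp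
    obtain ⟨s, hs, hsd⟩ := Nat.exists_prime_and_dvd (Finite.one_lt_card (α := V)).ne'
    haveI := Fact.mk hs
    obtain ⟨u₀, hu₀⟩ := exists_prime_addOrderOf_dvd_card' (G := V) s hsd
    have hu₀s : s • u₀ = 0 := hu₀ ▸ addOrderOf_nsmul_eq_zero u₀
    obtain ⟨r, hr⟩ : s ∣ R := hu₀ ▸ addOrderOf_dvd_of_nsmul_eq_zero (hRV u₀)
    have hcop : Nat.Coprime s r := hr ▸ hR |> Nat.coprime_of_squarefree_mul
    have hu₀0 : u₀ ≠ 0 := fun h => hs.ne_one (by rw [← hu₀, h, addOrderOf_zero])
    obtain ⟨v₁, hv₁⟩ : ∃ v, A.B.f u₀ v ≠ 1 := by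
      by_contra hc
      push Not at hc
      exact hu₀0 (A.nondeg u₀ hc)
    let v₀ := r • v₁
    have hv₀s : s • v₀ = 0 := by rw [← mul_nsmul', ← hr]; exact hRV v₁
    have hc : A.B.f u₀ v₀ ≠ 1 := fun h => hv₁ (by
      rw [A.B.nsmul_right] at h
      have h1 := pow_gcd_eq_one.2 ⟨fpair_pow A.B hu₀s (b := v₁), h⟩
      rwa [hcop, pow_one] at h1)
    refine A.step hs hu₀s hv₀s hc fun H hH _ A' => ?_
    subst hH
    have hcard := (rest_data A.nondeg hs hu₀s hv₀s hc).2
    have hlt : Nat.card (rest A.B u₀ v₀) < n := by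
      rw [← hn, ← hcard]
      refine lt_mul_of_one_lt_left Nat.card_pos ?_
      have := hs.two_le
      nlinarith
    obtain ⟨e, he, hbd⟩ := ih _ hlt (rest A.B u₀ v₀) (stabilizer U (u₀, v₀)) A' rfl
      ⟨R, hR, fun v => Subtype.ext (hRV v)⟩
    have hV : Nat.card V = (s * e) ^ 2 := by rw [← hcard, he]; ring
    have he1 : 1 ≤ e := by
      rcases Nat.eq_zero_or_pos e with rfl | h
      · exact absurd he Nat.card_pos.ne'
      · exact h
    refine ⟨s * e, hV, ?_⟩
    by_cases h2 : s * e = 2
    · rw [h2]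
      refine ⟨fun h => by omega, fun _ => Nat.le_of_dvd (by norm_num) (card_dvd_six A (by rw [hV, h2]; norm_num)),
        fun h => by omega, fun h => by omega, fun h => by omega⟩
    by_cases h4 : s * e = 4
    · rw [h4]
      have := iso16 A (torsion_two hR hRV (k := 4) (by rw [hV, h4]; norm_num)) (by rw [hV, h4]; norm_num)
      exact ⟨fun h => by omega, fun h => by omega, fun h => by omega, fun _ => ⟨this.2, this.1⟩,
        fun h => by omega⟩
    by_cases h8 : s * e = 8
    · rw [h8]
      have := iso64 A (torsion_two hR hRV (k := 6) (by rw [hV, h8]; norm_num)) (by rw [hV, h8]; norm_num)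
      refine ⟨fun h => by omega, fun h => by omega, fun h => by omega, fun h => by omega, fun _ => ?_⟩
      calc 8 ^ 2 * Nat.card U ≤ 8 ^ 2 * 41472 := by gcongr
        _ ≤ _ := by norm_num
    -- the torsion subgroup
    let Vs : AddSubgroup V :=
      { carrier := {x | s • x = 0}
        add_mem' := fun {a b} (ha : s • a = 0) (hb : s • b = 0) => by
          show s • (a + b) = 0; rw [smul_add, ha, hb, add_zero]
        zero_mem' := smul_zero s
        neg_mem' := fun {a} (ha : s • a = 0) => by show s • (-a) = 0; rw [smul_neg, ha, neg_zero] }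
    have hA : Nat.card Vs ∣ (s * e) ^ 2 := hV ▸ AddSubgroup.card_addSubgroup_dvd_card Vs
    have hA2 : ¬ s ∣ e → Nat.card Vs ∣ s ^ 2 := by
      intro hse
      obtain ⟨i, hi⟩ := IsPGroup.iff_card.1 (show IsPGroup s (Multiplicative Vs) from fun x => ⟨1, by
        rw [pow_one]
        exact Multiplicative.toAdd.injective (by rw [toAdd_pow, toAdd_one]; exact Subtype.ext (Multiplicative.toAdd x).2)⟩)
      rw [Nat.card_congr Multiplicative.toAdd] at hi
      rw [hi, mul_pow] at hA
      rw [hi]
      exact (Nat.Coprime.pow i 2 ((hs.coprime_iff_not_dvd).2 hse)).dvd_of_dvd_mul_right hA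
    refine isoB_step hs he1 h2 h4 h8 hbd hA hA2 ?_
    rw [← Subgroup.card_mul_index (stabilizer U (u₀, v₀)), MulAction.index_stabilizer]
    haveI := Fintype.ofFinite V
    let S : Finset (V × V) := Finset.univ.filter fun x =>
      x.1 ≠ 0 ∧ s • x.1 = 0 ∧ s • x.2 = 0 ∧ A.B.f x.1 x.2 = A.B.f u₀ v₀
    have horb : (MulAction.orbit U (u₀, v₀)).ncard ≤ S.card := by
      rw [← Set.ncard_coe_finset]
      refine Set.ncard_le_ncard ?_ S.finite_toSet
      rintro _ ⟨g, rfl⟩
      simp only [S, Finset.coe_filter, Finset.mem_univ, true_and, Set.mem_setOf_eq]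
      exact ⟨fun h => hu₀0 ((smul_eq_zero_iff_eq g).1 h),
        by rw [Prod.smul_fst, smul_comm s g, hu₀s, smul_zero],
        by rw [Prod.smul_snd, smul_comm s g, hv₀s, smul_zero], A.iso g u₀ v₀⟩
    set a := Nat.card Vs with ha
    have hS : S.card * s ≤ (a - 1) * a := by
      have himg : (S.image Prod.fst).card ≤ a - 1 := by
        rw [ha, Nat.card_eq_fintype_card, ← Finset.card_univ,
          ← Finset.card_erase_of_mem (Finset.mem_univ (0 : Vs))]
        refine Finset.card_le_card_of_surjOn (fun z : Vs => (z : V)) ?_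
        intro x hx
        obtain ⟨p, hp, rfl⟩ := Finset.mem_image.1 hx
        simp only [S, Finset.mem_filter, Finset.mem_univ, true_and] at hp
        exact ⟨⟨p.1, hp.2.1⟩, Finset.mem_erase.2 ⟨fun h => hp.1 (congrArg Subtype.val h), Finset.mem_univ _⟩, rfl⟩
      have hfib : ∀ x₁ ∈ S.image Prod.fst, (S.filter fun x => x.1 = x₁).card ≤ a / s := by
        intro x₁ hx₁
        obtain ⟨x, hx, rfl⟩ := Finset.mem_image.1 hx₁
        simp only [S, Finset.mem_filter, Finset.mem_univ, true_and] at hx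
        rw [Nat.le_div_iff_mul_le hs.pos]
        -- pairs times the multiples of the partner inject into the torsion
        let T := S.filter fun y => y.1 = x.1
        have hTmem : ∀ y ∈ T, s • y.2 = 0 ∧ A.B.f x.1 y.2 = A.B.f u₀ v₀ := by
          intro y hy
          simp only [T, S, Finset.mem_filter, Finset.mem_univ, true_and] at hy
          exact ⟨hy.1.2.2.1, hy.2 ▸ hy.1.2.2.2⟩
        have hTcard : (T ×ˢ Finset.range s).card ≤ a := by
          have hle : (T ×ˢ Finset.range s).card ≤ ((Finset.univ : Finset V).filter fun z => z ∈ Vs).card := by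
            refine Finset.card_le_card_of_injOn (fun y => y.1.2 + y.2 • x.2) (fun y hy => ?_) ?_
            · rw [Finset.mem_coe, Finset.mem_product] at hy
              simp only [Finset.coe_filter, Finset.mem_univ, true_and, Set.mem_setOf_eq]
              show s • (y.1.2 + y.2 • x.2) = 0
              rw [smul_add, smul_comm, hx.2.2.1, smul_zero, (hTmem _ hy.1).1, add_zero]
            · intro y hy y' hy' h
              rw [Finset.mem_coe, Finset.mem_product] at hy hy'
              simp only at h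
              have h1 := congrArg (A.B.f x.1) h
              rw [A.B.add_right, A.B.add_right, A.B.nsmul_right, A.B.nsmul_right, (hTmem _ hy.1).2,
                (hTmem _ hy'.1).2, hx.2.2.2] at h1
              have h2 : y.2 = y'.2 := pow_injOn_Iio_orderOf
                (by rw [orderOf_eq_prime (fpair_pow A.B hu₀s) hc]; exact Finset.mem_range.1 hy.2)
                (by rw [orderOf_eq_prime (fpair_pow A.B hu₀s) hc]; exact Finset.mem_range.1 hy'.2)
                (mul_left_cancel₀ (A.B.ne_zero _ _) h1)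
              rw [h2] at h
              have h3 : y.1.1 = y'.1.1 := by
                have e1 := (Finset.mem_filter.1 hy.1).2
                have e2 := (Finset.mem_filter.1 hy'.1).2
                rw [e1, e2]
              exact Prod.ext (Prod.ext h3 (add_right_cancel h)) h2
          refine hle.trans (le_of_eq ?_)
          rw [ha, Nat.card_eq_fintype_card, ← Fintype.card_subtype]
        rw [Finset.card_product, Finset.card_range] at hTcard
        exact hTcard
      calc S.card * s ≤ a / s * (S.image Prod.fst).card * s :=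
            Nat.mul_le_mul_right _ (Finset.card_le_mul_card_image S _ hfib)
        _ ≤ a / s * (a - 1) * s := by gcongr
        _ = (a - 1) * (a / s * s) := by ring
        _ ≤ (a - 1) * a := by gcongr; exact Nat.div_mul_le_self _ _
    calc Nat.card (stabilizer U (u₀, v₀)) * (MulAction.orbit U (u₀, v₀)).ncard * s
        ≤ Nat.card (stabilizer U (u₀, v₀)) * (S.card * s) := by rw [mul_assoc]; gcongr
      _ ≤ Nat.card (stabilizer U (u₀, v₀)) * ((a - 1) * a) := by gcongr
      _ = _ := by ring

end Cfsg.Agent.H38.KSolv
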