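import Mathlib
import Cfsg.Agent.H38.KSolv.Iso
import Cfsg.Agent.H88.ClassBound.Scalars
import Cfsg.Agent.H88.ClassBound.Field
import Cfsg.Agent.H10.BaseThree.Symplectic

/-!
# The layer of a solvable linear group without blocks among its scalars
-/

set_option autoImplicit false
set_option linter.unusedSectionVars false
set_option linter.style.haveILetI false

namespace Cfsg.Agent.H38.KSolv

open Cfsg.Agent.H10.BaseThree Cfsg.Agent.H30.ClassFit Cfsg.Agent.H88.ClassBound
open scoped commutatorElement

universe u v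

/-- The data of a group without blocks on a space of exponent `p`. -/
structure Layer (C : Type u) (W : Type v) [Group C] [AddCommGroup W] (p : ℕ) where
  T : Subgroup C
  B : Subgroup C
  D : Subgroup C
  a : ℕ
  n : ℕ
  e : ℕ
  ha : 1 ≤ a
  hn : 1 ≤ n
  he : 1 ≤ e
  hen : e ≤ n
  card_W : Nat.card W = p ^ (a * n)
  hT : T.Normal
  hB : B.Normal
  hTB : T ≤ B
  hBD : B ≤ D
  central : ∀ d ∈ D, ∀ t ∈ T, d * t = t * d
  hDidx : D.index ≤ a
  cardB : Nat.card B = Nat.card T * e ^ 2
  iso : IsoB e (B.relIndex D)
  exponent : ∃ R : ℕ, Squarefree R ∧ ∀ x ∈ B, x ^ R ∈ T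
  prime : a = 1 → D = ⊤ ∧ Nat.card T ∣ p - 1 ∧
    (∀ (x : C) (o : ℕ), x ^ o ∈ T → Nat.card {t : T // IsConj ((t : C) * x) x} ≤ Nat.gcd n o) ∧
    (n = 2 → ∀ x : C, x ^ 2 ∉ T → Nat.card {t : T // IsConj ((t : C) * x) x} ≤ 1)

theorem exists_layer_data {C : Type u} {W : Type v} [Group C] [Finite C] [Group.IsSolvable C]
    [AddCommGroup W] [Finite W] [DistribMulAction C W] {p : ℕ} [hpF : Fact p.Prime]
    (hp : ∀ w : W, p • w = 0) (hirr : Irred C W)
    (hfaith : ∀ g : C, (∀ w : W, g • w = w) → g = 1)
    {T : Subgroup C} [hTn : T.Normal] (hTc : ∀ a ∈ T, ∀ b ∈ T, a * b = b * a)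
    (hTmax : ∀ A : Subgroup C, A.Normal → T ≤ A → (∀ a ∈ A, ∀ b ∈ A, a * b = b * a) → A ≤ T)
    (hnb : ∀ e ∈ scalars W T, ¬ IsBlock C e) : Nonempty (Layer C W p) := by
  classical
  haveI := hirr.1
  let K := scalars W T
  letI iC : CommRing K :=
    { (inferInstance : Ring K) with
      mul_comm := fun x y => Subtype.ext (scalars_comm hTc x.2 y.2) }
  haveI : Nontrivial K := ⟨⟨0, 1, fun h => by
    obtain ⟨v, hv⟩ := exists_ne (0 : W)
    exact hv (DFunLike.congr_fun (congrArg Subtype.val h) v).symm⟩⟩
  haveI : NoZeroDivisors K := ⟨fun {x y} h => by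
    by_contra hc
    push Not at hc
    refine hc.2 (Subtype.ext (AddMonoidHom.ext fun u => ?_))
    exact scalars_injective_of_no_block hirr hnb hTc x.2 (fun h0 => hc.1 (Subtype.ext h0))
      (DFunLike.congr_fun (congrArg Subtype.val h) u)⟩
  haveI : IsDomain K := NoZeroDivisors.to_isDomain K
  haveI : Finite K := Subtype.finite
  letI : Fintype K := Fintype.ofFinite K
  letI : Field K := Fintype.fieldOfDomain K
  let f : T →* K := toScalar W T
  have hf : Function.Injective f := (injective_iff_map_eq_one f).2 fun t ht => Subtype.ext <|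
    hfaith t fun u => DFunLike.congr_fun (congrArg Subtype.val ht) u
  have hsmul : ∀ (x : K) (w : W), x • w = (x : AddMonoid.End W) w := fun _ _ => rfl
  haveI hK : CharP K p := by
    obtain ⟨r, hr⟩ := CharP.exists K
    have hpK : (p : K) = 0 := by
      apply Subtype.ext
      refine AddMonoidHom.ext fun w => ?_
      have h1 : (((p : K) : AddMonoid.End W)) = (p : AddMonoid.End W) := by push_cast; rfl
      rw [h1]
      exact (AddMonoid.End.natCast_apply p w).trans (hp w)
    have hrp : r = p := by
      rcases hpF.out.eq_one_or_self_of_dvd r ((CharP.cast_eq_zero_iff K r p).1 hpK) with h | h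
      · exact absurd h (CharP.char_ne_one K r)
      · exact h
    exact hrp ▸ hr
  obtain ⟨a, ha1, hKcard, hauts⟩ := field_data (1 : K)
  have hbase : Nat.card (Subring.closure ({(1 : K)} : Set K)) = p := by
    let φ : ZMod p →+* K := ZMod.castHom dvd_rfl K
    have h1 : Subring.closure ({(1 : K)} : Set K) = φ.range := by
      refine le_antisymm ((Subring.closure_le).2 fun x hx => ?_) ?_
      · rw [Set.mem_singleton_iff.1 hx]; exact one_mem _
      · rintro _ ⟨x, rfl⟩
        obtain ⟨i, rfl⟩ := ZMod.intCast_surjective x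
        rw [map_intCast]
        exact intCast_mem _ i
    rw [h1]
    show Nat.card (Set.range φ) = p
    rw [Nat.card_range_of_injective φ.injective, Nat.card_zmod]
  rw [hbase] at hKcard
  set n := Module.finrank K W with hn_def
  have hWcard : Nat.card W = Nat.card K ^ n := Module.natCard_eq_pow_finrank
  have hn1 : 1 ≤ n := Module.finrank_pos
  -- conjugation of the scalars
  let σ : C →* RingAut K :=
    { toFun := fun g =>
        { toFun := fun x => ⟨cnj g x, cnj_mem_scalars x.2 g⟩
          invFun := fun x => ⟨cnj g⁻¹ x, cnj_mem_scalars x.2 g⁻¹⟩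
          left_inv := fun x => Subtype.ext (by
            change cnj g⁻¹ (cnj g (x : AddMonoid.End W)) = x
            rw [← cnj_mul, inv_mul_cancel, cnj_one])
          right_inv := fun x => Subtype.ext (by
            change cnj g (cnj g⁻¹ (x : AddMonoid.End W)) = x
            rw [← cnj_mul, mul_inv_cancel, cnj_one])
          map_mul' := fun x y => Subtype.ext (cnj_map_mul g _ _)
          map_add' := fun x y => Subtype.ext (AddMonoidHom.ext fun v =>
            smul_add g ((x : AddMonoid.End W) (g⁻¹ • v)) ((y : AddMonoid.End W) (g⁻¹ • v))) }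
      map_one' := RingEquiv.ext fun x => Subtype.ext (cnj_one _)
      map_mul' := fun g h => RingEquiv.ext fun x => Subtype.ext (cnj_mul g h _) }
  have hσ : ∀ g (t : T), σ g (f t) = f ⟨g * t * g⁻¹, hTn.conj_mem t t.2 g⟩ :=
    fun g t => Subtype.ext (AddMonoidHom.ext fun w => by
      change g • (t : C) • g⁻¹ • w = (g * (t : C) * g⁻¹) • w
      rw [mul_smul, mul_smul])
  haveI : Finite (RingAut K) := Finite.of_injective (fun τ => (τ : K → K)) DFunLike.coe_injective
  let D : Subgroup C := σ.ker
  have hDc : ∀ g ∈ D, ∀ t ∈ T, g * t = t * g := by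
    intro g hg t ht
    have h1 : σ g (f ⟨t, ht⟩) = f ⟨t, ht⟩ := by
      rw [show σ g = 1 from hg]; rfl
    rw [hσ] at h1
    have h2 := congrArg Subtype.val (hf h1)
    simp only at h2
    calc g * t = g * t * g⁻¹ * g := by group
      _ = t * g := by rw [h2]
  have hDmem : ∀ g, (∀ t ∈ T, g * t = t * g) → g ∈ D := by
    intro g hg
    rw [MonoidHom.mem_ker]
    refine RingEquiv.ext fun x => Subtype.ext ?_
    change cnj g (x : AddMonoid.End W) = x
    obtain ⟨x, hx⟩ := x
    induction hx using Subring.closure_induction with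
    | mem y hy =>
      obtain ⟨t, ht, rfl⟩ := hy
      refine AddMonoidHom.ext fun w => ?_
      change g • t • g⁻¹ • w = t • w
      rw [← mul_smul, ← mul_smul, hg t ht, mul_inv_cancel_right]
    | zero => exact cnj_map_zero g
    | one => refine AddMonoidHom.ext fun w => ?_; exact smul_inv_smul g w
    | add a c _ _ ha hc =>
      refine AddMonoidHom.ext fun w => ?_
      change g • (a (g⁻¹ • w) + c (g⁻¹ • w)) = a w + c w
      rw [smul_add]
      exact congrArg₂ (· + ·) (DFunLike.congr_fun ha w) (DFunLike.congr_fun hc w)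
    | neg a _ ha =>
      refine AddMonoidHom.ext fun w => ?_
      change g • (-a (g⁻¹ • w)) = -a w
      rw [smul_neg]
      exact congrArg Neg.neg (DFunLike.congr_fun ha w)
    | mul a c _ _ ha hc => rw [cnj_map_mul, ha, hc]
  have hDidx : D.index ≤ a := by
    refine le_trans ?_ hauts
    rw [show D.index = Nat.card σ.range from Subgroup.index_ker σ]
    exact Nat.card_le_card_of_injective (fun s => (⟨(s : RingAut K), map_one _⟩ :
      {s : RingAut K // s (1 : K) = 1})) (fun s s' h => Subtype.ext (congrArg Subtype.val h :))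
  have hscal : ∀ g ∈ D, ∀ (x : K) (w : W), g • x • w = x • g • w := by
    intro g hg x w
    have h1 : σ g x = x := by rw [show σ g = 1 from hg]; rfl
    have h2 := DFunLike.congr_fun (congrArg Subtype.val h1) (g • w)
    change g • (x : AddMonoid.End W) (g⁻¹ • g • w) = (x : AddMonoid.End W) (g • w) at h2
    rw [inv_smul_smul] at h2
    exact h2
  -- the layer
  obtain ⟨B, hBn, hTB, hcentral, hBcomm, hcentre, ⟨R, hR, hRB⟩, hCB⟩ := exists_layer hTc hTmax
  haveI := hBn
  have hBD : B ≤ D := fun g hg => hDmem g fun t ht => (hcentral t ht g hg).symm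
  have hcc : ∀ x ∈ B, ∀ y ∈ B, ∀ c ∈ B, ⁅x, y⁆ * c = c * ⁅x, y⁆ :=
    fun x hx y hy c hc => hcentral _ (hBcomm x hx y hy) c hc
  have hml : ∀ x ∈ B, ∀ y ∈ B, ∀ w ∈ B, ⁅x * y, w⁆ = ⁅x, w⁆ * ⁅y, w⁆ := by
    intro x hx y hy w hw
    have h1 : ⁅x * y, w⁆ = x * ⁅y, w⁆ * x⁻¹ * ⁅x, w⁆ := by
      simp only [commutatorElement_def]; group
    rw [h1, ← hcc y hy w hw x hx, mul_inv_cancel_right,
      hcc y hy w hw _ (hTB (hBcomm x hx w hw))]
  have hmr : ∀ x ∈ B, ∀ y ∈ B, ∀ w ∈ B, ⁅x, y * w⁆ = ⁅x, y⁆ * ⁅x, w⁆ := by
    intro x hx y hy w hw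
    rw [← commutatorElement_inv, hml y hy w hw x hx, mul_inv_rev, commutatorElement_inv,
      commutatorElement_inv, hcc x hx w hw _ (hTB (hBcomm x hx y hy))]
  have hTone : ∀ t ∈ T, ∀ y ∈ B, ⁅t, y⁆ = 1 ∧ ⁅y, t⁆ = 1 := fun t ht y hy =>
    ⟨commutatorElement_eq_one_iff_mul_comm.2 (hcentral t ht y hy),
      commutatorElement_eq_one_iff_mul_comm.2 (hcentral t ht y hy).symm⟩
  let N := T.subgroupOf B
  letI : CommGroup (B ⧸ N) :=
    { (inferInstance : Group (B ⧸ N)) with
      mul_comm := fun x y => by
        induction x using QuotientGroup.induction_on with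
        | _ a =>
          induction y using QuotientGroup.induction_on with
          | _ c =>
            refine commutatorElement_eq_one_iff_mul_comm.1
              ((map_commutatorElement (QuotientGroup.mk' N) a c).symm.trans
                ((QuotientGroup.eq_one_iff _).2 ?_))
            exact hBcomm (a : C) a.2 (c : C) c.2 }
  -- the pairing
  haveI : IsCyclic T := isCyclic_of_injective_ringHom f hf
  obtain ⟨ι, hι⟩ := exists_hom_complex T
  let κ : B → B → T := fun a c => ⟨⁅(a : C), (c : C)⁆, hBcomm a a.2 c c.2⟩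
  have hκout : ∀ a c : B, κ (a : B ⧸ N).out c = κ a c ∧ κ c (a : B ⧸ N).out = κ c a := by
    intro a c
    obtain ⟨⟨d, hd⟩, he⟩ := QuotientGroup.mk_out_eq_mul N a
    have hd' : (d : C) ∈ T := hd
    constructor <;> apply Subtype.ext
    · change ⁅(((a : B ⧸ N).out : B) : C), (c : C)⁆ = ⁅(a : C), (c : C)⁆
      rw [he, Subgroup.coe_mul, hml a a.2 d d.2 c c.2, (hTone d hd' c c.2).1, mul_one]
    · change ⁅(c : C), (((a : B ⧸ N).out : B) : C)⁆ = ⁅(c : C), (a : C)⁆
      rw [he, Subgroup.coe_mul, hmr c c.2 a a.2 d d.2, (hTone d hd' c c.2).2, mul_one]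
  let P : Alt (Additive (B ⧸ N)) :=
    { f := fun x y => ι (κ (Additive.toMul x).out (Additive.toMul y).out)
      add_left := by
        intro x y w
        induction x using Additive.rec with
        | ofMul x =>
        induction y using Additive.rec with
        | ofMul y =>
        induction x using QuotientGroup.induction_on with
        | _ a =>
        induction y using QuotientGroup.induction_on with
        | _ c =>
        change ι (κ ((a * c : B) : B ⧸ N).out _) = _
        rw [(hκout (a * c) _).1]
        change _ = ι (κ (a : B ⧸ N).out _) * ι (κ (c : B ⧸ N).out _)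
        rw [(hκout a _).1, (hκout c _).1, ← map_mul]
        exact congrArg ι (Subtype.ext (hml a a.2 c c.2 _ (SetLike.coe_mem _)))
      add_right := by
        intro w x y
        induction x using Additive.rec with
        | ofMul x =>
        induction y using Additive.rec with
        | ofMul y =>
        induction x using QuotientGroup.induction_on with
        | _ a =>
        induction y using QuotientGroup.induction_on with
        | _ c =>
        change ι (κ _ ((a * c : B) : B ⧸ N).out) = _
        rw [(hκout (a * c) _).2]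
        change _ = ι (κ _ (a : B ⧸ N).out) * ι (κ _ (c : B ⧸ N).out)
        rw [(hκout a _).2, (hκout c _).2, ← map_mul]
        exact congrArg ι (Subtype.ext (hmr _ (SetLike.coe_mem _) a a.2 c c.2))
      self := fun x => by
        rw [← map_one ι]
        exact congrArg ι (Subtype.ext (commutatorElement_eq_one_iff_mul_comm.2 rfl)) }
  have hPmk : ∀ a c : B, P.f (Additive.ofMul (a : B ⧸ N)) (Additive.ofMul (c : B ⧸ N)) =
      ι (κ a c) := by
    intro a c
    change ι (κ (a : B ⧸ N).out (c : B ⧸ N).out) = _
    rw [(hκout a _).1, (hκout c _).2]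
  have hP : P.Nondeg := by
    intro x hx
    induction x using Additive.rec with
    | ofMul x =>
    induction x using QuotientGroup.induction_on with
    | _ a =>
    refine congrArg Additive.ofMul ((QuotientGroup.eq_one_iff a).2 ?_)
    refine hcentre _ a.2 fun c hc => commutatorElement_eq_one_iff_mul_comm.1 ?_
    have h1 := hx (Additive.ofMul ((⟨c, hc⟩ : B) : B ⧸ N))
    rw [hPmk, ← map_one ι] at h1
    exact congrArg Subtype.val (hι h1)
  -- conjugation on `B ⧸ N`
  have hNmap : ∀ g : C, N.map (MulAut.conjNormal g : B ≃* B).toMonoidHom = N := by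
    intro g
    ext x
    constructor
    · rintro ⟨y, hy, rfl⟩
      change ((MulAut.conjNormal g y : B) : C) ∈ T
      rw [MulAut.conjNormal_apply]
      exact hTn.conj_mem _ hy g
    · intro hx
      refine ⟨MulAut.conjNormal g⁻¹ x, ?_, ?_⟩
      · change ((MulAut.conjNormal g⁻¹ x : B) : C) ∈ T
        rw [MulAut.conjNormal_apply]
        exact hTn.conj_mem _ hx g⁻¹
      · apply Subtype.ext
        change ((MulAut.conjNormal g (MulAut.conjNormal g⁻¹ x) : B) : C) = x
        rw [MulAut.conjNormal_apply, MulAut.conjNormal_apply]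
        group
  let ψ : D →* MulAut (B ⧸ N) :=
    { toFun := fun g => QuotientGroup.congr N N (MulAut.conjNormal (g : C)) (hNmap g)
      map_one' := MulEquiv.ext fun x => by
        induction x using QuotientGroup.induction_on with
        | _ a => exact congrArg QuotientGroup.mk (Subtype.ext (by simp))
      map_mul' := fun g h => MulEquiv.ext fun x => by
        induction x using QuotientGroup.induction_on with
        | _ a => exact congrArg QuotientGroup.mk (Subtype.ext (by simp [mul_assoc])) }
  have hψ : ∀ (g : D) (a : B), ψ g (a : B ⧸ N) =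
      ((MulAut.conjNormal (g : C) a : B) : B ⧸ N) := fun _ _ => rfl
  letI : DistribMulAction ψ.range (Additive (B ⧸ N)) :=
    { smul := fun g x => Additive.ofMul ((g : MulAut (B ⧸ N)) (Additive.toMul x))
      one_smul := fun x => rfl
      mul_smul := fun g h x => rfl
      smul_zero := fun g => congrArg Additive.ofMul (map_one (g : MulAut (B ⧸ N)))
      smul_add := fun g x y => congrArg Additive.ofMul (map_mul (g : MulAut (B ⧸ N)) _ _) }
  have hexp : ∃ R : ℕ, Squarefree R ∧ ∀ x : Additive (B ⧸ N), R • x = 0 := by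
    refine ⟨R, hR, fun x => ?_⟩
    induction x using Additive.rec with
    | ofMul x =>
    induction x using QuotientGroup.induction_on with
    | _ a =>
    refine congrArg Additive.ofMul (?_ : ((a : B ⧸ N)) ^ R = 1)
    rw [← QuotientGroup.mk_pow, QuotientGroup.eq_one_iff]
    change ((a ^ R : B) : C) ∈ T
    rw [Subgroup.coe_pow]
    exact hRB _ a.2
  have hiso : IsoAct ψ.range (Additive (B ⧸ N)) := ⟨P, hP, by
      rintro ⟨_, g, rfl⟩ x y
      induction x using Additive.rec with
      | ofMul x =>
      induction y using Additive.rec with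
      | ofMul y =>
      induction x using QuotientGroup.induction_on with
      | _ a =>
      induction y using QuotientGroup.induction_on with
      | _ c =>
      change P.f (Additive.ofMul (ψ g (a : B ⧸ N))) (Additive.ofMul (ψ g (c : B ⧸ N))) = _
      rw [hψ, hψ, hPmk, hPmk]
      refine congrArg ι (Subtype.ext ?_)
      change ⁅((MulAut.conjNormal (g : C) a : B) : C), ((MulAut.conjNormal (g : C) c : B) : C)⁆ =
        ⁅(a : C), (c : C)⁆
      rw [MulAut.conjNormal_apply, MulAut.conjNormal_apply, ← conjugate_commutatorElement,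
        hDc g g.2 _ (hBcomm a a.2 c c.2), mul_inv_cancel_right],
    fun g hg => Subtype.ext (MulEquiv.ext fun x => congrArg Additive.toMul (hg (Additive.ofMul x)))⟩
  haveI : Group.IsSolvable ψ.range := solvable_of_surjective ψ.rangeRestrict_surjective
  obtain ⟨e, he, hbound⟩ := exists_isoB _ (Additive (B ⧸ N)) ψ.range hiso rfl hexp
  have hQ : Nat.card (B ⧸ N) = e ^ 2 := (Nat.card_congr Additive.toMul).symm.trans he
  -- the kernel of the action on the layer is the layer
  have hker : ψ.ker ≤ B.subgroupOf D := by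
    intro g hg
    obtain ⟨hfin, hle⟩ := Alt.card_monoidHom_le (B ⧸ N)
    let Φ : B ⧸ N → (B ⧸ N →* ℂ) := fun x =>
      { toFun := fun y => P.f (Additive.ofMul x) (Additive.ofMul y)
        map_one' := P.zero_right _
        map_mul' := fun y w => P.add_right _ _ _ }
    have hΦ : Function.Injective Φ := fun x y h => Additive.ofMul.injective (sub_eq_zero.1
      (hP _ fun w => by
        have h1 : P.f (Additive.ofMul x) w = P.f (Additive.ofMul y) w :=
          DFunLike.congr_fun h (Additive.toMul w)
        rw [P.sub_left, h1, mul_inv_cancel₀ (P.ne_zero _ _)]))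
    have hgT : ∀ a : B, ⁅((g : D) : C), (a : C)⁆ ∈ T := by
      intro a
      have h1 : ψ g (a : B ⧸ N) = (a : B ⧸ N) := by rw [show ψ g = 1 from hg]; rfl
      rw [hψ, eq_comm, QuotientGroup.eq] at h1
      have h2 : (a : C)⁻¹ * ((g : C) * a * (g : C)⁻¹) ∈ T := by
        simpa [N, Subgroup.mem_subgroupOf] using h1
      have h3 := hTn.conj_mem _ h2 (a : C)
      have e1 : (a : C) * ((a : C)⁻¹ * ((g : C) * a * (g : C)⁻¹)) * (a : C)⁻¹ =
          ⁅(g : C), (a : C)⁆ := by
        simp only [commutatorElement_def]; group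
      rwa [e1] at h3
    let χ : B →* ℂ :=
      { toFun := fun a => ι ⟨_, hgT a⟩
        map_one' := by
          rw [← map_one ι]
          exact congrArg ι (Subtype.ext (commutatorElement_one_right _))
        map_mul' := fun a c => by
          rw [← map_mul ι]
          refine congrArg ι (Subtype.ext ?_)
          change ⁅((g : D) : C), (a : C) * (c : C)⁆ = ⁅((g : D) : C), (a : C)⁆ * ⁅((g : D) : C), (c : C)⁆
          have h1 : ⁅((g : D) : C), (a : C) * (c : C)⁆ =
              ⁅((g : D) : C), (a : C)⁆ * ((a : C) * ⁅((g : D) : C), (c : C)⁆ * (a : C)⁻¹) := by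
            simp only [commutatorElement_def]; group
          rw [h1, ← hcentral _ (hgT c) a a.2, mul_inv_cancel_right] }
    have hχ : N ≤ χ.ker := fun a ha => by
      rw [MonoidHom.mem_ker, ← map_one ι]
      exact congrArg ι (Subtype.ext (commutatorElement_eq_one_iff_mul_comm.2 (hDc g g.2 _ ha)))
    obtain ⟨x, hx⟩ := ((Nat.bijective_iff_injective_and_card Φ).2
      ⟨hΦ, le_antisymm (Nat.card_le_card_of_injective Φ hΦ) hle⟩).2 (QuotientGroup.lift N χ hχ)
    induction x using QuotientGroup.induction_on with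
    | _ c =>
    have hc : ∀ a : B, ⁅((g : D) : C), (a : C)⁆ = ⁅(c : C), (a : C)⁆ := by
      intro a
      have h1 := DFunLike.congr_fun hx (a : B ⧸ N)
      change P.f (Additive.ofMul (c : B ⧸ N)) (Additive.ofMul (a : B ⧸ N)) = ι ⟨_, hgT a⟩ at h1
      rw [hPmk] at h1
      exact (congrArg Subtype.val (hι h1)).symm
    have hgc : (c : C)⁻¹ * (g : C) ∈ T := by
      refine hCB _ (fun t ht => ?_) fun a ha => ?_
      · have e1 : (c : C)⁻¹ * t = t * (c : C)⁻¹ := (hcentral t ht _ (inv_mem c.2)).symm
        calc (c : C)⁻¹ * (g : C) * t = (c : C)⁻¹ * (t * (g : C)) := by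
              rw [mul_assoc, hDc g g.2 t ht]
          _ = t * ((c : C)⁻¹ * (g : C)) := by rw [← mul_assoc, e1, mul_assoc]
      · have h1 := hc ⟨a, ha⟩
        simp only [commutatorElement_def] at h1
        have h2 : (g : C) * a * (g : C)⁻¹ = (c : C) * a * (c : C)⁻¹ := mul_right_cancel h1
        calc (c : C)⁻¹ * (g : C) * a = (c : C)⁻¹ * ((g : C) * a * (g : C)⁻¹) * (g : C) := by group
          _ = a * ((c : C)⁻¹ * (g : C)) := by rw [h2]; group
    rw [Subgroup.mem_subgroupOf]
    have := mul_mem c.2 (hTB hgc)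
    rwa [mul_inv_cancel_left] at this
  -- the count of the layer
  have hen : e ≤ n := by
    let ρ : B → (W →ₗ[K] W) := fun a =>
      { toFun := fun w => (a : C) • w
        map_add' := fun x y => smul_add _ _ _
        map_smul' := fun x w => hscal _ (hBD a.2) x w }
    let Φ : B → (W →ₗ[K] W) →ₗ[K] (W →ₗ[K] W) := fun a =>
      (LinearMap.llcomp K W W W (ρ a)).comp
        ((LinearMap.llcomp K W W W).flip (ρ a⁻¹))
    let χ : B ⧸ N → B →* K := fun x =>
      { toFun := fun a => f (κ a x.out)
        map_one' := by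
          rw [← map_one f]
          exact congrArg f (Subtype.ext (commutatorElement_one_left _))
        map_mul' := fun a c => by
          rw [← map_mul f]
          exact congrArg f (Subtype.ext (hml a a.2 c c.2 _ (SetLike.coe_mem _))) }
    have hχ : Function.Injective χ := by
      intro x y h
      rw [← QuotientGroup.out_eq' x, ← QuotientGroup.out_eq' y, QuotientGroup.eq]
      refine hcentre _ (Subtype.prop ((x.out : B)⁻¹ * y.out)) fun c hc => ?_
      have h1 := congrArg Subtype.val (hf (DFunLike.congr_fun h (⟨c, hc⟩ : B)))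
      change ⁅c, ((x.out : B) : C)⁆ = ⁅c, ((y.out : B) : C)⁆ at h1
      refine (commutatorElement_eq_one_iff_mul_comm.1 ?_).symm
      rw [Subgroup.coe_subtype, Subgroup.coe_mul, hmr c hc _ (SetLike.coe_mem _) _ (SetLike.coe_mem _), ← h1,
        ← hmr c hc _ (SetLike.coe_mem _) _ (SetLike.coe_mem _), ← Subgroup.coe_mul, inv_mul_cancel]
      exact commutatorElement_one_right c
    have hm : ∀ x : B ⧸ N, ρ x.out ≠ 0 := by
      intro x h
      obtain ⟨w, hw⟩ := exists_ne (0 : W)
      have h1 : ((x.out : B) : C) • w = 0 := LinearMap.congr_fun h w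
      exact hw ((smul_eq_zero_iff_eq _).1 h1)
    have := card_le_finrank_of_characters Φ (fun x => ρ x.out) hm χ hχ fun a x =>
      LinearMap.ext fun w => by
        change (a : C) • ((x.out : B) : C) • ((a⁻¹ : B) : C) • w =
          ⁅(a : C), ((x.out : B) : C)⁆ • ((x.out : B) : C) • w
        simp only [smul_smul, commutatorElement_def, Subgroup.coe_inv]
        congr 1
        group
    rw [hQ, Module.finrank_linearMap, ← sq] at this
    exact (Nat.pow_le_pow_iff_left two_ne_zero).1 this
  have he1 : 1 ≤ e := by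
    rcases Nat.eq_zero_or_pos e with rfl | h
    · rw [show (0 : ℕ) ^ 2 = 0 from rfl] at hQ
      exact absurd hQ Nat.card_pos.ne'
    · exact h
  have hrel : B.relIndex D = Nat.card ψ.range := by
    rw [← Subgroup.index_ker, Subgroup.relIndex]
    congr 1
    refine le_antisymm (fun g hg => ?_) hker
    refine MonoidHom.mem_ker.2 (MulEquiv.ext fun x => ?_)
    induction x using QuotientGroup.induction_on with
    | _ b =>
    rw [hψ]
    change _ = (b : B ⧸ N)
    have h1 : (MulAut.conjNormal ((g : D) : C) b : B) = ⟨_, hg⟩ * b * (⟨_, hg⟩ : B)⁻¹ :=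
      Subtype.ext (MulAut.conjNormal_apply _ _)
    rw [h1, QuotientGroup.mk_mul, QuotientGroup.mk_mul, QuotientGroup.mk_inv, mul_comm _ (b : B ⧸ N),
      mul_inv_cancel_right]
  refine ⟨{ T := T, B := B, D := D, a := a, n := n, e := e, ha := ha1, hn := hn1, he := he1, hen := hen,
            card_W := by rw [hWcard, hKcard, ← pow_mul],
            hT := hTn, hB := hBn, hTB := hTB, hBD := hBD, central := hDc, hDidx := hDidx,
            cardB := ?_, iso := hrel ▸ hbound, exponent := ⟨R, hR, hRB⟩, prime := ?_ }⟩
  · rw [Subgroup.card_eq_card_quotient_mul_card_subgroup N, hQ, mul_comm]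
    congr 1
    exact Nat.card_congr (Subgroup.subgroupOfEquivOfLe hTB).toEquiv
  intro ha
  have hDtop : D = ⊤ := Subgroup.index_eq_one.1 (le_antisymm (hDidx.trans (le_of_eq ha))
    (Nat.pos_of_ne_zero Subgroup.index_ne_zero_of_finite))
  let fu : T →* Kˣ := f.toHomUnits
  have hfu : Function.Injective fu := fun s t h => hf (congrArg Units.val h)
  refine ⟨hDtop, ?_, ?_⟩
  · have h1 := Subgroup.card_dvd_of_injective fu hfu
    rwa [Nat.card_units, hKcard, ha, pow_one] at h1
  -- the linear maps
  let ρ : C →* (W →ₗ[K] W) :=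
    { toFun := fun g =>
        { toFun := fun w => g • w
          map_add' := fun x y => smul_add g x y
          map_smul' := fun x w => hscal g (hDtop ▸ Subgroup.mem_top g) x w }
      map_one' := LinearMap.ext fun w => one_smul C w
      map_mul' := fun g h => LinearMap.ext fun w => mul_smul g h w }
  have hρt : ∀ t : T, ρ (t : C) = (f t) • (1 : W →ₗ[K] W) := fun t => LinearMap.ext fun w => rfl
  have hdet : ∀ g : C, LinearMap.det (ρ g) ≠ 0 := fun g h => by
    have h1 : LinearMap.det (ρ g) * LinearMap.det (ρ g⁻¹) = 1 := by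
      rw [← map_mul, ← map_mul, mul_inv_cancel, map_one, map_one]
    rw [h, zero_mul] at h1
    exact zero_ne_one h1
  have hTz : ∀ t : T, ∀ g : C, g * t = t * g := fun t g => hDc g (hDtop ▸ Subgroup.mem_top g) t t.2
  have hpowS : ∀ (x : C) (t : T), IsConj ((t : C) * x) x → f t ^ n = 1 := by
    intro x t h
    obtain ⟨c, hc⟩ := isConj_iff.1 h
    have h1 := congrArg (fun g => LinearMap.det (ρ g)) hc
    simp only [map_mul, hρt, smul_one_mul] at h1
    rw [LinearMap.det_smul] at h1
    have hcc : LinearMap.det (ρ c) * LinearMap.det (ρ c⁻¹) = 1 := by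
      rw [← map_mul, ← map_mul, mul_inv_cancel, map_one, map_one]
    have h2 : f t ^ n * LinearMap.det (ρ x) = 1 * LinearMap.det (ρ x) := by
      rw [one_mul]
      calc f t ^ n * LinearMap.det (ρ x)
          = (LinearMap.det (ρ c) * LinearMap.det (ρ c⁻¹)) * (f t ^ n * LinearMap.det (ρ x)) := by
            rw [hcc, one_mul]
        _ = LinearMap.det (ρ x) := by rw [hn_def]; linear_combination h1
    exact mul_right_cancel₀ (hdet x) h2
  refine ⟨fun x o ho => ?_, fun hn2 x hx => ?_⟩
  · have hg0 : 0 < Nat.gcd n o := Nat.gcd_pos_of_pos_left o hn1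
    have hmem : ∀ t : {t : T // IsConj ((t : C) * x) x}, f t.1 ^ Nat.gcd n o = 1 := by
      intro t
      refine pow_gcd_eq_one.2 ⟨hpowS x t.1 t.2, ?_⟩
      obtain ⟨c, hc⟩ := isConj_iff.1 t.2
      have h1 : c * (((t.1 : T) : C) * x) ^ o * c⁻¹ = x ^ o := by rw [← conj_pow, hc]
      have h2 : c * x ^ o = x ^ o * c := hTz ⟨x ^ o, ho⟩ c
      have h3 : ((t.1 : T) : C) ^ o = 1 := by
        rw [(show Commute ((t.1 : T) : C) x from (hTz t.1 x).symm).mul_pow, ← mul_assoc,
          hTz ⟨_, pow_mem t.1.2 o⟩ c] at h1
        rw [mul_assoc (((t.1 : T) : C) ^ o), h2, ← mul_assoc, mul_inv_cancel_right] at h1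
        exact mul_right_cancel (h1.trans (one_mul _).symm)
      rw [← map_pow, show (t.1 : T) ^ o = 1 from Subtype.ext (by push_cast; exact h3), map_one]
    refine le_trans (Nat.card_le_card_of_injective
      (fun t => (⟨f t.1, by
        rw [Multiset.mem_toFinset, Polynomial.mem_nthRoots hg0]; exact hmem t⟩ :
        (Polynomial.nthRoots (Nat.gcd n o) (1 : K)).toFinset))
      fun t t' h => Subtype.ext (hf (congrArg Subtype.val h))) ?_
    rw [Nat.card_eq_finsetCard]
    exact (Multiset.toFinset_card_le _).trans (Polynomial.card_nthRoots _ _)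
  · haveI : Subsingleton {t : T // IsConj ((t : C) * x) x} := by
      suffices key : ∀ t : {t : T // IsConj ((t : C) * x) x}, t.1 = 1 from
        ⟨fun t t' => Subtype.ext ((key t).trans (key t').symm)⟩
      intro t
      by_contra ht
      refine hx ?_
      obtain ⟨c, hc⟩ := isConj_iff.1 t.2
      have h1 : ρ c * ((f t.1 • ρ x) * ρ c⁻¹) = ρ x := by
        rw [← smul_one_mul (f t.1) (ρ x), ← hρt, ← map_mul, ← map_mul, ← map_mul, ← mul_assoc, hc]
      have htr : LinearMap.trace K W (ρ x) = 0 := by
        have h2 := congrArg (LinearMap.trace K W) h1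
        rw [LinearMap.trace_mul_comm, mul_assoc, ← map_mul, inv_mul_cancel, map_one, mul_one,
          map_smul, smul_eq_mul] at h2
        by_contra hne
        exact ht (hf (by rw [map_one]; exact mul_right_cancel₀ hne (h2.trans (one_mul _).symm)))
      let bb : Module.Basis (Fin 2) K W := Module.finBasisOfFinrankEq K W hn2
      set M := LinearMap.toMatrix bb bb (ρ x) with hM
      have htM : M 0 0 + M 1 1 = 0 := by
        rw [LinearMap.trace_eq_matrix_trace K bb, ← hM, Matrix.trace_fin_two] at htr
        exact htr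
      have hsq : ρ (x ^ 2) = (M 0 0 * M 0 0 + M 0 1 * M 1 0) • (1 : W →ₗ[K] W) := by
        apply (LinearMap.toMatrix bb bb).injective
        rw [map_pow, pow_two, map_smul, LinearMap.toMatrix_mul, LinearMap.toMatrix_one, ← hM]
        have h11 : M 1 1 = - M 0 0 := eq_neg_of_add_eq_zero_right htM
        refine Matrix.ext fun i j => ?_
        fin_cases i <;> fin_cases j <;>
          simp [Matrix.mul_apply, Fin.sum_univ_two, h11] <;> try ring
      have hcen : ∀ g : C, x ^ 2 * g = g * x ^ 2 := by
        intro g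
        refine (inv_mul_eq_one.1 (hfaith _ fun w => ?_)).symm
        have h2 : ρ (x ^ 2 * g) = ρ (g * x ^ 2) := by
          rw [map_mul, map_mul, hsq, smul_one_mul, mul_smul_one]
        have h3 := LinearMap.congr_fun h2 w
        change (x ^ 2 * g) • w = (g * x ^ 2) • w at h3
        rw [mul_smul, h3, inv_smul_smul]
      exact hCB _ (fun t ht => hcen t) fun b _ => hcen b
    exact Finite.card_le_one_iff_subsingleton.2 inferInstance

end Cfsg.Agent.H38.KSolv
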