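import Mathlib
import Cfsg.Agent.H38.KSolv.Layer
import Cfsg.Agent.H38.KSolv.Classes
import Cfsg.Agent.H38.KSolv.Few

/-!
# Classes of a group without blocks
-/

set_option autoImplicit false
set_option linter.unusedSectionVars false
set_option linter.style.haveILetI false

namespace Cfsg.Agent.H38.KSolv

open scoped Classical

universe u v

theorem kc_succ_of_surjective {G H : Type*} [Group G] [Finite G] [Group H] [Finite H] (f : G →* H)
    (hf : Function.Surjective f) (hni : ¬ Function.Injective f) : kc H + 1 ≤ kc G := by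
  have hk : f.ker ≠ ⊥ := fun h => hni ((MonoidHom.ker_eq_bot_iff f).1 h)
  rw [← kc_congr (QuotientGroup.quotientKerEquivOfSurjective f hf)]
  exact kc_quotient_succ_le _ hk

theorem two_le_kc {G : Type*} [Group G] [Finite G] [Nontrivial G] : 2 ≤ kc G := by
  obtain ⟨x, hx⟩ := exists_ne (1 : G)
  haveI : Nontrivial (ConjClasses G) := ⟨⟨ConjClasses.mk x, ConjClasses.mk 1, fun e =>
    hx (isConj_one_left.1 (ConjClasses.mk_eq_mk_iff_isConj.1 e))⟩⟩
  exact Finite.one_lt_card

theorem sq_le_nine {a : ℕ} (ha : 1 ≤ a) : a ^ 2 ≤ 9 ^ (a - 1) := by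
  induction a, ha using Nat.le_induction with
  | base => norm_num
  | succ n hn ih =>
    have e : n + 1 - 1 = (n - 1) + 1 := by omega
    rw [e, pow_succ (9 : ℕ)]
    calc (n + 1) ^ 2 ≤ n ^ 2 * 9 := by nlinarith
      _ ≤ 9 ^ (n - 1) * 9 := Nat.mul_le_mul_right _ ih

theorem sq_le_nine' {a : ℕ} (ha : 2 ≤ a) : a ^ 2 ≤ 9 ^ (2 * a - 3) := by
  induction a, ha using Nat.le_induction with
  | base => norm_num
  | succ n hn ih =>
    have e : 2 * (n + 1) - 3 = (2 * n - 3) + 2 := by omega
    rw [e, pow_add]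
    nlinarith

theorem IsoB.le_pow {e M : ℕ} (h : IsoB e M) (he : 2 ≤ e) : e ^ 2 * M ≤ 9 ^ e := by
  obtain ⟨-, h2, h3, h4, h5⟩ := h
  rcases lt_or_ge e 5 with hlt | hge
  · interval_cases e
    · have := h2 rfl; norm_num; omega
    · have := h3 rfl; norm_num; omega
    · have := (h4 rfl).1; norm_num; omega
  · exact (h5 hge).trans (Nat.pow_le_pow_right (by norm_num) (by omega))

variable {C : Type u} {W : Type v} [Group C] [Finite C] [AddCommGroup W] {p : ℕ}

theorem Layer.weighted (S : Layer C W p) (ha : S.a = 1) [S.T.Normal] {ι : Type*} [Fintype ι]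
    (x : ι → C) (hx : ∀ i j, IsConj (QuotientGroup.mk' S.T (x i)) (QuotientGroup.mk' S.T (x j)) → i = j)
    (L : ℕ) (w : ι → ℕ) (hw : ∀ i, w i * Nat.card {t : S.T // IsConj ((t : C) * x i) (x i)} ≤ L) :
    Nat.card S.T * ∑ i, w i ≤ L * kc C :=
  classes_over_central S.T
    (fun t ht g => S.central g ((S.prime ha).1 ▸ Subgroup.mem_top g) t ht) x hx L w hw

/-- Weights on all classes of the quotient. -/
theorem Layer.weighted_classes (S : Layer C W p) (ha : S.a = 1) [S.T.Normal]
    [Fintype (ConjClasses (C ⧸ S.T))] (L : ℕ) (w : ConjClasses (C ⧸ S.T) → ℕ)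
    (hw : ∀ q : C ⧸ S.T, w (ConjClasses.mk q) * Nat.gcd S.n (orderOf q) ≤ L) :
    Nat.card S.T * ∑ c, w c ≤ L * kc C := by
  choose r hr using fun c : ConjClasses (C ⧸ S.T) => ConjClasses.exists_rep c
  choose x hx using fun q : C ⧸ S.T => QuotientGroup.mk'_surjective S.T q
  refine S.weighted ha (fun c => x (r c)) (fun c d h => ?_) L w fun c => ?_
  · rw [hx, hx] at h
    rw [← hr c, ← hr d]
    exact ConjClasses.mk_eq_mk_iff_isConj.2 h
  · refine le_trans (Nat.mul_le_mul_left _ ((S.prime ha).2.2.1 (x (r c)) (orderOf (r c)) ?_)) ?_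
    · rw [← QuotientGroup.eq_one_iff, QuotientGroup.mk_pow]
      exact (congrArg (fun z => z ^ orderOf (r c)) (hx (r c))).trans (pow_orderOf_eq_one _)
    · have := hw (r c)
      rwa [hr] at this

theorem Layer.card_T_le (S : Layer C W p) : Nat.card S.T ≤ kc S.D := by
  refine Nat.card_le_card_of_injective
    (fun t => ConjClasses.mk (⟨(t : C), S.hBD (S.hTB t.2)⟩ : S.D)) fun s t h => ?_
  obtain ⟨d, hd⟩ := isConj_iff.1 (ConjClasses.mk_eq_mk_iff_isConj.1 h)
  have h1 : (d : C) * (s : C) * (d : C)⁻¹ = (t : C) := congrArg Subtype.val hd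
  rw [S.central d d.2 s s.2, mul_inv_cancel_right] at h1
  exact Subtype.ext h1

theorem Layer.card_D (S : Layer C W p) :
    Nat.card S.D = Nat.card S.T * S.e ^ 2 * S.B.relIndex S.D := by
  rw [← S.cardB, Subgroup.relIndex, ← Nat.card_congr (Subgroup.subgroupOfEquivOfLe S.hBD).toEquiv,
    Subgroup.card_mul_index]

theorem Layer.card_quot (S : Layer C W p) (ha : S.a = 1) :
    Nat.card C = Nat.card S.T * (S.e ^ 2 * S.B.index) ∧ S.B.relIndex S.D = S.B.index := by
  have hD := (S.prime ha).1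
  have h := S.card_D
  rw [hD, Subgroup.card_top, Subgroup.relIndex_top_right] at h
  exact ⟨by rw [h, mul_assoc], by rw [hD, Subgroup.relIndex_top_right]⟩

theorem Layer.kbound (S : Layer C W p) : Nat.card C ≤ kc C * 9 ^ (S.a * S.n - 1) := by
  haveI := S.hT
  haveI := S.hB
  have hk : kc S.D ≤ S.a * kc C := (kc_subgroup_le S.D).trans (Nat.mul_le_mul_right _ S.hDidx)
  set M := S.B.relIndex S.D with hM
  have hC : Nat.card C ≤ S.a * (Nat.card S.T * (S.e ^ 2 * M)) := by
    rw [← S.D.card_mul_index, S.card_D, ← hM, mul_comm S.a, ← mul_assoc (Nat.card S.T)]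
    exact Nat.mul_le_mul_left _ S.hDidx
  have general : S.a ^ 2 * (S.e ^ 2 * M) ≤ 9 ^ (S.a * S.n - 1) →
      Nat.card C ≤ kc C * 9 ^ (S.a * S.n - 1) := fun h => by
    calc Nat.card C ≤ S.a * (Nat.card S.T * (S.e ^ 2 * M)) := hC
      _ ≤ S.a * ((S.a * kc C) * (S.e ^ 2 * M)) := by
          gcongr
          exact S.card_T_le.trans hk
      _ = kc C * (S.a ^ 2 * (S.e ^ 2 * M)) := by ring
      _ ≤ _ := Nat.mul_le_mul_left _ h
  have hiso := S.iso
  rw [← hM] at hiso
  rcases Nat.lt_or_ge S.e 2 with he1 | he2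
  · apply general
    have he : S.e = 1 := by have := S.he; omega
    rw [he, hiso.1 he, one_pow, mul_one, mul_one]
    refine (sq_le_nine S.ha).trans (Nat.pow_le_pow_right (by norm_num) ?_)
    have := Nat.le_mul_of_pos_right S.a (show 0 < S.n from S.hn)
    omega
  have h9 := hiso.le_pow he2
  rcases Nat.lt_or_ge S.a 2 with ha1 | ha2
  swap
  · apply general
    refine le_trans (Nat.mul_le_mul (sq_le_nine' ha2) h9) ?_
    rw [← pow_add]
    refine Nat.pow_le_pow_right (by norm_num) ?_
    have h1 : S.a * S.e ≤ S.a * S.n := Nat.mul_le_mul_left _ S.hen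
    have h2 : 2 * S.a + S.e ≤ S.a * S.e + 2 := by
      obtain ⟨a', ha'⟩ : ∃ a', S.a = a' + 1 := ⟨S.a - 1, by omega⟩
      rw [ha']
      nlinarith
    omega
  have ha : S.a = 1 := by have := S.ha; omega
  rcases Nat.lt_or_ge S.e S.n with hlt | hge
  · apply general
    rw [ha, one_pow, one_mul]
    exact h9.trans (Nat.pow_le_pow_right (by norm_num) (by omega))
  have hne : S.e = S.n := le_antisymm S.hen hge
  rcases Nat.lt_or_ge S.e 5 with he5 | he5
  swap
  · apply general
    rw [ha, one_pow, one_mul, one_mul, ← hne]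
    exact hiso.2.2.2.2 he5
  -- the small layers
  haveI := Fintype.ofFinite (ConjClasses (C ⧸ S.T))
  obtain ⟨hcard, hMi⟩ := S.card_quot ha
  have hMB : M = S.B.index := hMi
  have hQ : Nat.card (C ⧸ S.T) = S.e ^ 2 * M := by
    have h1 := Subgroup.card_eq_card_quotient_mul_card_subgroup S.T
    rw [hcard, ← hMB, mul_comm (Nat.card S.T)] at h1
    exact (Nat.eq_of_mul_eq_mul_right Nat.card_pos h1).symm
  let π : C ⧸ S.T →* C ⧸ S.B := QuotientGroup.map _ _ (MonoidHom.id C) (fun x hx => S.hTB hx)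
  have hπ : Function.Surjective π := fun q => by
    induction q using QuotientGroup.induction_on with
    | _ g => exact ⟨(g : C ⧸ S.T), rfl⟩
  have hMq : Nat.card (C ⧸ S.B) = M := by rw [hMB, Subgroup.index_eq_card]
  have hMpos : 0 < M := hMq ▸ Nat.card_pos
  have hlt' : Nat.card (C ⧸ S.B) < Nat.card (C ⧸ S.T) := by
    rw [hQ, hMq]
    exact lt_mul_of_one_lt_left hMpos (Nat.one_lt_pow two_ne_zero he2)
  have hπni : ¬ Function.Injective π := fun hi => (Nat.card_le_card_of_injective _ hi).not_gt hlt'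
  have hk1 := kc_succ_of_surjective π hπ hπni
  haveI : Nontrivial (C ⧸ S.T) := Finite.one_lt_card_iff_nontrivial.1 (lt_of_le_of_lt Nat.card_pos hlt')
  have hkQ2 : 2 ≤ kc (C ⧸ S.T) := two_le_kc
  have hsum1 : ∀ (L : ℕ), S.n = L →
      Nat.card S.T * (kc (C ⧸ S.T) + (L - 1)) ≤ L * kc C := by
    intro L hL
    have h := S.weighted_classes ha L (fun c => if c = ConjClasses.mk 1 then L else 1) (fun q => by
      split_ifs with h
      · rw [isConj_one_left.1 (ConjClasses.mk_eq_mk_iff_isConj.1 h), orderOf_one, Nat.gcd_one_right,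
          mul_one]
      · rw [one_mul, ← hL]
        exact Nat.le_of_dvd S.hn (Nat.gcd_dvd_left _ _))
    refine le_trans (le_of_eq ?_) h
    congr 1
    rw [Finset.sum_ite, Finset.filter_eq', if_pos (Finset.mem_univ _), Finset.sum_singleton,
      Finset.filter_ne', Finset.sum_const, smul_eq_mul, mul_one,
      Finset.card_erase_of_mem (Finset.mem_univ _), Finset.card_univ, kc, Nat.card_eq_fintype_card]
    have := S.hn
    have hpos : 0 < Fintype.card (ConjClasses (C ⧸ S.T)) := Fintype.card_pos_iff.2 ⟨ConjClasses.mk 1⟩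
    omega
  rw [ha, one_mul]
  have finish : ∀ L F, 0 < L → L * (S.e ^ 2 * M) ≤ 9 ^ (S.n - 1) * F →
      Nat.card S.T * F ≤ L * kc C → Nat.card C ≤ kc C * 9 ^ (S.n - 1) := by
    intro L F hL h1 h2
    refine Nat.le_of_mul_le_mul_left ?_ hL
    calc L * Nat.card C = Nat.card S.T * (L * (S.e ^ 2 * M)) := by rw [hcard, ← hMB]; ring
      _ ≤ Nat.card S.T * (9 ^ (S.n - 1) * F) := Nat.mul_le_mul_left _ h1
      _ = 9 ^ (S.n - 1) * (Nat.card S.T * F) := by ring
      _ ≤ 9 ^ (S.n - 1) * (L * kc C) := Nat.mul_le_mul_left _ h2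
      _ = _ := by ring
  rw [hne] at hQ hiso
  interval_cases hee : S.e
  · refine finish 2 _ two_pos ?_ (hsum1 2 hne.symm)
    have := hiso.2.1 hne.symm
    rw [← hne]
    norm_num [-Nat.card_eq_fintype_card]
    rcases Nat.lt_or_ge (kc (C ⧸ S.T)) 5 with h4 | h4
    · have := card_le_twelve (G := C ⧸ S.T) (by omega)
      rw [hQ, ← hne] at this
      omega
    · omega
  · refine finish 3 _ (by norm_num) ?_ (hsum1 3 hne.symm)
    have := hiso.2.2.1 hne.symm
    rw [← hne]
    norm_num [-Nat.card_eq_fintype_card]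
    rcases Nat.lt_or_ge (kc (C ⧸ S.B)) 5 with h4 | h4
    · have h12 := card_le_twelve (G := C ⧸ S.B) (by omega)
      rw [hMq] at h12
      omega
    · omega
  · obtain ⟨hM144, hM720⟩ := hiso.2.2.2.1 hne.symm
    rw [← hne] at hQ
    rcases Nat.lt_or_ge M 46 with hM45 | hM46
    · have hle := S.card_T_le.trans hk
      rw [ha, one_mul] at hle
      rw [hcard, ← hMB, ← hne]
      refine le_trans (Nat.mul_le_mul hle (show 4 ^ 2 * M ≤ 9 ^ (4 - 1) by norm_num; omega)) le_rfl
    have h5 : 5 ≤ kc (C ⧸ S.B) := by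
      by_contra hc
      have h12 := card_le_twelve (G := C ⧸ S.B) (by omega)
      rw [hMq] at h12
      omega
    -- an element of odd prime order
    obtain ⟨q, hq, hq2, hqd⟩ : ∃ q : ℕ, q.Prime ∧ q ≠ 2 ∧ q ∣ M := by
      by_contra hc
      push Not at hc
      have h16 : M ∣ 16 := by
        refine (Nat.Coprime.dvd_of_dvd_mul_right ?_ (show M ∣ 16 * 45 from hM720))
        refine Nat.coprime_of_dvd fun k hk hkM hk45 => ?_
        rcases eq_or_ne k 2 with rfl | hk2
        · norm_num at hk45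
        · exact hc k hk hk2 hkM
      have := Nat.le_of_dvd (by norm_num) h16
      omega
    haveI := Fact.mk hq
    obtain ⟨y, hy⟩ := exists_prime_orderOf_dvd_card' (G := C ⧸ S.T) q
      (hQ ▸ hqd.mul_left (4 ^ 2))
    -- a nontrivial element of the layer
    obtain ⟨b, hb, hbT⟩ : ∃ b ∈ S.B, b ∉ S.T := by
      by_contra hc
      push Not at hc
      have h1 : Nat.card S.B ≤ Nat.card S.T := Nat.le_of_dvd Nat.card_pos (Subgroup.card_dvd_of_le hc)
      rw [S.cardB, hee] at h1
      have := Nat.card_pos (α := S.T)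
      omega
    obtain ⟨R, hR, hRB⟩ := S.exponent
    have hyB : π y ≠ 1 := by
      intro h
      have hmem : y ∈ π.ker := h
      have hd : q ∣ Nat.card π.ker := by
        rw [← hy, ← Subgroup.orderOf_mk y hmem]
        exact orderOf_dvd_natCard _
      have hk16 : Nat.card π.ker = 16 := by
        have h1 := π.ker.card_mul_index
        rw [Subgroup.index_ker, MonoidHom.range_eq_top.2 hπ, Subgroup.card_top, hMq, hQ] at h1
        exact Nat.eq_of_mul_eq_mul_right (by omega) h1
      rw [hk16] at hd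
      exact hq2 ((Nat.prime_dvd_prime_iff_eq hq Nat.prime_two).1 (hq.dvd_of_dvd_pow (show q ∣ 2 ^ 4 from hd)))
    set c1 : ConjClasses (C ⧸ S.T) := ConjClasses.mk 1 with hc1
    set cy : ConjClasses (C ⧸ S.T) := ConjClasses.mk y with hcy
    set cb : ConjClasses (C ⧸ S.T) := ConjClasses.mk (b : C ⧸ S.T) with hcb
    have hd1 : c1 ≠ cy := fun h => hyB (by
      rw [isConj_one_right.1 (ConjClasses.mk_eq_mk_iff_isConj.1 h)]; exact map_one π)
    have hd2 : c1 ≠ cb := fun h => hbT ((QuotientGroup.eq_one_iff b).1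
      (isConj_one_right.1 (ConjClasses.mk_eq_mk_iff_isConj.1 h)))
    have hd3 : cy ≠ cb := fun h => hyB (isConj_one_left.1 (by
      have h1 := π.map_isConj (ConjClasses.mk_eq_mk_iff_isConj.1 h)
      rwa [show π (b : C ⧸ S.T) = 1 from (QuotientGroup.eq_one_iff b).2 hb] at h1))
    have h := S.weighted_classes ha 4
      (fun c => if c = c1 ∨ c = cy then 4 else if c = cb then 2 else 1) (fun z => by
      have hgd : Nat.gcd S.n (orderOf z) ∣ 4 := hne ▸ Nat.gcd_dvd_left _ _
      have hinv : ∀ z' : C ⧸ S.T, ConjClasses.mk z = ConjClasses.mk z' → orderOf z = orderOf z' := by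
        intro z' h
        obtain ⟨c, hc⟩ := isConj_iff.1 (ConjClasses.mk_eq_mk_iff_isConj.1 h)
        rw [← hc]
        exact (MulEquiv.orderOf_eq (MulAut.conj c) z).symm
      split_ifs with h h'
      · rcases h with h | h
        · rw [hinv 1 h, orderOf_one, Nat.gcd_one_right, mul_one]
        · rw [hinv y h, hy, ← hne, show Nat.gcd 4 q = 1 from ?_, mul_one]
          exact (Nat.Coprime.pow_left 2 ((Nat.coprime_primes Nat.prime_two hq).2 hq2.symm))
      · have hR1 : Nat.gcd S.n (orderOf z) ∣ R := (Nat.gcd_dvd_right _ _).trans (by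
          rw [hinv _ h']
          refine orderOf_dvd_of_pow_eq_one ?_
          rw [← QuotientGroup.mk_pow]
          exact (QuotientGroup.eq_one_iff _).2 (hRB b hb))
        obtain ⟨i, hi, hgi⟩ := (Nat.dvd_prime_pow Nat.prime_two).1 (show Nat.gcd S.n (orderOf z) ∣ 2 ^ 2 from hgd)
        have hi1 : i ≤ 1 := by
          by_contra hlt
          have h4 : (2 : ℕ) * 2 ∣ R := by
            refine dvd_trans ?_ (hgi ▸ hR1)
            rw [← pow_two]; exact pow_dvd_pow 2 (by omega)
          have := hR 2 h4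
          simp at this
        rw [hgi]
        calc 2 * 2 ^ i ≤ 2 * 2 ^ 1 := by gcongr; norm_num
          _ = 4 := by norm_num
      · rw [one_mul]
        exact Nat.le_of_dvd (by norm_num) hgd)
    refine finish 4 _ (by norm_num) ?_ h
    have hsum : 13 ≤ ∑ c : ConjClasses (C ⧸ S.T),
        (if c = c1 ∨ c = cy then 4 else if c = cb then 2 else 1) := by
      have hsub : ({c1, cy, cb} : Finset (ConjClasses (C ⧸ S.T))) ⊆ Finset.univ := Finset.subset_univ _
      rw [← Finset.sum_sdiff hsub]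
      have e1 : ∑ c ∈ ({c1, cy, cb} : Finset (ConjClasses (C ⧸ S.T))),
          (if c = c1 ∨ c = cy then 4 else if c = cb then 2 else 1) = 10 := by
        rw [Finset.sum_insert (by simp [hd1, hd2]), Finset.sum_pair hd3]
        simp [hd2.symm, hd3.symm]
      have e2 : 3 ≤ ∑ c ∈ Finset.univ \ ({c1, cy, cb} : Finset (ConjClasses (C ⧸ S.T))),
          (if c = c1 ∨ c = cy then 4 else if c = cb then 2 else 1) := by
        refine le_trans ?_ (Finset.card_nsmul_le_sum _ _ 1 fun c _ => by split_ifs <;> omega)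
        rw [smul_eq_mul, mul_one, Finset.card_univ_diff, Finset.card_insert_of_notMem (by simp [hd1, hd2]),
          Finset.card_pair hd3, ← Nat.card_eq_fintype_card]
        simp only [kc] at hk1 h5
        omega
      omega
    rw [← hne]
    norm_num [-Nat.card_eq_fintype_card]
    omega

end Cfsg.Agent.H38.KSolv
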