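import Mathlib
import Cfsg.Agent.H38.KSolv.LayerBound
import Cfsg.Agent.H88.ClassBound.Count

/-!
# Classes of solvable irreducible linear groups
-/

set_option autoImplicit false
set_option linter.unusedSectionVars false
set_option linter.style.haveILetI false

namespace Cfsg.Agent.H38.KSolv

open Cfsg.Agent.H10.BaseThree Cfsg.Agent.H88.ClassBound

open scoped Classical

universe u v

/-- The group is abelian-normal maximal or has a block: a maximal abelian normal subgroup. -/
theorem exists_maximal_abelian_normal (G : Type u) [Group G] [Finite G] :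
    ∃ T : Subgroup G, T.Normal ∧ (∀ a ∈ T, ∀ b ∈ T, a * b = b * a) ∧
      ∀ A : Subgroup G, A.Normal → T ≤ A → (∀ a ∈ A, ∀ b ∈ A, a * b = b * a) → A ≤ T := by
  let Fam : Set (Subgroup G) := {A | A.Normal ∧ ∀ a ∈ A, ∀ b ∈ A, a * b = b * a}
  have hbot : (⊥ : Subgroup G) ∈ Fam :=
    ⟨inferInstance, fun a ha b hb => by rw [Subgroup.mem_bot.1 ha, Subgroup.mem_bot.1 hb]⟩
  obtain ⟨T, -, ⟨⟨hTn, hTc⟩, hTmax⟩⟩ := (Set.toFinite Fam).exists_le_maximal hbot
  exact ⟨T, hTn, hTc, fun A hA hTA hAc => hTmax ⟨hA, hAc⟩ hTA⟩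

/-- The group of a block. -/
theorem block_bound {p : ℕ} [hp : Fact p.Prime] {H : Type u} {W : Type v} [Group H] [Finite H]
    [Group.IsSolvable H] [AddCommGroup W] [Finite W] [DistribMulAction H W]
    (hW : ∀ w : W, p • w = 0) (hirr : Irred H W)
    (hfaith : ∀ g : H, (∀ w : W, g • w = w) → g = 1)
    (ih : ∀ (H' : Type u) (W' : Type v) [Group H'] [Finite H'] [Group.IsSolvable H']
      [AddCommGroup W'] [Finite W'] [DistribMulAction H' W'],
      Nat.card W' < Nat.card W → (∀ w : W', p • w = 0) → Irred H' W' →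
      (∀ g : H', (∀ w : W', g • w = w) → g = 1) → ∀ m, Nat.card W' = p ^ m →
      Nat.card H' ≤ kc H' * 9 ^ (m - 1))
    {e : AddMonoid.End W} (he : IsBlock H e) {m : ℕ} (hm : Nat.card W = p ^ m) :
    ∃ t m1, 2 ≤ t ∧ 1 ≤ m1 ∧ t * m1 ≤ m ∧ (blockStab H e).index = t ∧
      Nat.card (blockStab H e).normalCore ≤ kc (blockStab H e).normalCore * 9 ^ (t * (m1 - 1)) := by
  haveI := hirr.1
  haveI := Fintype.ofFinite (H ⧸ blockStab H e)
  let M := blockStab H e
  set t := M.index with ht
  have ht2 : 2 ≤ t := by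
    have h0 : t ≠ 0 := Subgroup.index_ne_zero_of_finite
    have h1 : t ≠ 1 := fun h => blockStab_ne_top hirr he (Subgroup.index_eq_one.1 h)
    omega
  have hirr0 := irred_blockSpace hirr he
  haveI := hirr0.1
  set w0 := Nat.card (blockSpace e) with hw0
  have hwt : w0 ^ t ≤ Nat.card W := by
    rw [ht, Subgroup.index_eq_card, hw0, ← Nat.card_fun]
    refine Nat.card_le_card_of_injective
      (fun f : H ⧸ blockStab H e → blockSpace e => ∑ q, q.out • ((f q : blockSpace e) : W))
      fun f f' h => ?_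
    have hput : ∀ (f : H ⧸ blockStab H e → blockSpace e) q,
        e (q.out⁻¹ • ∑ q', q'.out • ((f q' : blockSpace e) : W)) = f q := by
      intro f q
      rw [Finset.smul_sum, map_sum, Finset.sum_eq_single q]
      · rw [inv_smul_smul]; exact (f q).2
      · intro q' _ hne
        have h1 := DFunLike.congr_fun (trans_orth he hne.symm)
          (q'.out • ((f q' : blockSpace e) : W))
        rw [AddMonoid.End.coe_mul, Function.comp_apply, H10.BaseThree.trans, H10.BaseThree.trans,
          cnj_apply, cnj_apply, inv_smul_smul, (f q').2] at h1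
        exact (smul_eq_zero_iff_eq _).1 h1
      · simp
    funext q
    apply Subtype.ext
    have h' : ∑ q', q'.out • ((f q' : blockSpace e) : W) =
        ∑ q', q'.out • ((f' q' : blockSpace e) : W) := h
    rw [← hput f q, ← hput f' q, h']
  have hlt : w0 < Nat.card W := by
    have h2 : 2 ≤ w0 := Finite.one_lt_card
    have h3 : w0 ^ 2 ≤ w0 ^ t := Nat.pow_le_pow_right (by omega) ht2
    nlinarith
  -- the exponent of the block space
  have hw0p : IsPGroup p (Multiplicative (blockSpace e)) := fun x => ⟨1, by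
    rw [pow_one]
    exact Subtype.ext (hW ((Multiplicative.toAdd x : blockSpace e) : W))⟩
  obtain ⟨m1, hm1⟩ := IsPGroup.iff_card.1 hw0p
  rw [Nat.card_congr Multiplicative.toAdd, ← hw0] at hm1
  have hm1pos : 1 ≤ m1 := by
    rcases Nat.eq_zero_or_pos m1 with rfl | h
    · have h2 : 2 ≤ w0 := Finite.one_lt_card
      simp at hm1
      omega
    · exact h
  have htm : t * m1 ≤ m := by
    rw [hm, hm1, ← pow_mul, mul_comm] at hwt
    exact (Nat.pow_le_pow_iff_right hp.out.one_lt).1 hwt
  -- the group on the block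
  let φ : M →* AddMonoid.End (blockSpace e) :=
    DistribMulAction.toAddMonoidEnd M (blockSpace e)
  let H1 := M ⧸ φ.ker
  letI : DistribMulAction H1 (blockSpace e) :=
    DistribMulAction.compHom (M := AddMonoid.End (blockSpace e)) (blockSpace e)
      (QuotientGroup.lift φ.ker φ le_rfl)
  have hfaith1 : ∀ g : H1, (∀ w : blockSpace e, g • w = w) → g = 1 := by
    intro g hg
    induction g using QuotientGroup.induction_on with
    | _ g => exact (QuotientGroup.eq_one_iff g).2 (AddMonoidHom.ext hg)
  have hirr1 : Irred H1 (blockSpace e) :=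
    ⟨hirr0.1, fun U hU => hirr0.2 U fun g w hw => hU (g : H1) w hw⟩
  haveI : Group.IsSolvable H1 := solvable_of_surjective (QuotientGroup.mk'_surjective φ.ker)
  have hb := ih H1 (blockSpace e) hlt (fun w => Subtype.ext (hW w)) hirr1 hfaith1 m1 hm1
  -- the core in the power
  set K := M.normalCore with hK
  haveI : K.Normal := Subgroup.normalCore_normal M
  have hmem : ∀ (x : K) (q : H ⧸ M), q.out⁻¹ * (x : H) * q.out ∈ M := fun x q =>
    M.normalCore_le (by
      simpa using (Subgroup.normalCore_normal M).conj_mem (x : H) x.2 q.out⁻¹)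
  let ψ : K →* (H ⧸ M → H1) :=
    { toFun := fun x q => ((⟨_, hmem x q⟩ : M) : H1)
      map_one' := funext fun q => (QuotientGroup.eq_one_iff _).2 (by
        rw [show (⟨_, hmem 1 q⟩ : M) = 1 from Subtype.ext (by simp)]
        exact one_mem _)
      map_mul' := fun x y => funext fun q => by
        rw [Pi.mul_apply, ← QuotientGroup.mk_mul]
        exact congrArg QuotientGroup.mk (Subtype.ext (by simp [mul_assoc])) }
  have hψ : Function.Injective ψ := by
    refine (injective_iff_map_eq_one ψ).2 fun x hx => Subtype.ext (hfaith _ fun w => ?_)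
    rw [← sum_trans hirr he w, Finset.smul_sum]
    refine Finset.sum_congr rfl fun q _ => ?_
    have hw' : e (q.out⁻¹ • w) ∈ blockSpace e := DFunLike.congr_fun he.idem _
    have h1 : (q.out⁻¹ * (x : H) * q.out) • e (q.out⁻¹ • w) = e (q.out⁻¹ • w) :=
      congrArg Subtype.val (DFunLike.congr_fun
        ((QuotientGroup.eq_one_iff _).1 (congrFun hx q) : φ ⟨_, hmem x q⟩ = 1) (⟨_, hw'⟩ : blockSpace e))
    rw [H10.BaseThree.trans, cnj_apply]
    rw [mul_smul, mul_smul, inv_smul_eq_iff] at h1
    exact h1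
  refine ⟨t, m1, ht2, hm1pos, htm, rfl, ?_⟩
  have hmain := kc_mul_card_le ψ.range
  rw [kc_pi, Nat.card_fun, ← Nat.card_eq_fintype_card, ← Subgroup.index_eq_card, ← ht,
    ← Nat.card_congr (MonoidHom.ofInjective hψ).toEquiv,
    ← kc_congr (MonoidHom.ofInjective hψ)] at hmain
  refine Nat.le_of_mul_le_mul_left (hmain.trans ?_) (pow_pos (kc_pos (G := H1)) t)
  calc kc K * Nat.card H1 ^ t ≤ kc K * (kc H1 * 9 ^ (m1 - 1)) ^ t := by gcongr
    _ = kc H1 ^ t * (kc K * 9 ^ (t * (m1 - 1))) := by
        rw [mul_pow, mul_comm t, pow_mul]; ring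

theorem kbound_aux {p : ℕ} [hp : Fact p.Prime] :
    ∀ (N : ℕ) (H : Type u) (W : Type v) [Group H] [Finite H] [Group.IsSolvable H] [AddCommGroup W]
    [Finite W] [DistribMulAction H W], Nat.card W = N → (∀ w : W, p • w = 0) → Irred H W →
    (∀ g : H, (∀ w : W, g • w = w) → g = 1) → ∀ m, Nat.card W = p ^ m →
    Nat.card H ≤ kc H * 9 ^ (m - 1) := by
  intro N
  induction N using Nat.strong_induction_on with
  | _ N ih =>
    intro H W _ _ _ _ _ _ hN hW hirr hfaith m hm
    obtain ⟨T, hTn, hTc, hTmax⟩ := exists_maximal_abelian_normal H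
    haveI := hTn
    by_cases hb : ∃ e ∈ scalars W T, IsBlock H e
    · obtain ⟨e, -, he⟩ := hb
      obtain ⟨t, m1, ht, hm1, htm, hidx, hK⟩ := block_bound hW hirr hfaith
        (fun H' W' _ _ _ _ _ _ hlt => ih _ (hN ▸ hlt) H' W' rfl) he hm
      haveI := Fintype.ofFinite (H ⧸ blockStab H e)
      have hcore := index_ker_le (blockStab H e).index H (blockStab H e) le_rfl
      rw [← Subgroup.index_eq_card, hidx] at hcore
      set K := (blockStab H e).normalCore with hKdef
      have h1 : Nat.card H = Nat.card K * K.index := K.card_mul_index.symm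
      calc Nat.card H ≤ (K.index * kc H * 9 ^ (t * (m1 - 1))) * K.index := by
            rw [h1]
            gcongr
            exact hK.trans (Nat.mul_le_mul_right _ (kc_subgroup_le K))
        _ = K.index ^ 2 * kc H * 9 ^ (t * (m1 - 1)) := by ring
        _ ≤ (3 ^ (t - 1)) ^ 2 * kc H * 9 ^ (t * (m1 - 1)) := by gcongr
        _ = kc H * 9 ^ ((t - 1) + t * (m1 - 1)) := by
            rw [← pow_mul, mul_comm (t - 1), pow_mul, pow_add]; ring
        _ ≤ kc H * 9 ^ (m - 1) := by
            refine Nat.mul_le_mul_left _ (Nat.pow_le_pow_right (by norm_num) ?_)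
            have : t * (m1 - 1) + t = t * m1 := by
              rw [← Nat.mul_succ]; congr 1; omega
            omega
    · push Not at hb
      obtain ⟨S⟩ := exists_layer_data hW hirr hfaith hTc hTmax hb
      have : S.a * S.n = m := Nat.pow_right_injective hp.out.two_le (S.card_W.symm.trans hm)
      exact this ▸ S.kbound

/-- A faithful irreducible solvable group on `p ^ m` points has at least `|H| / 9 ^ (m - 1)` classes. -/
theorem kbound {p : ℕ} [Fact p.Prime] {H : Type u} {W : Type v} [Group H] [Finite H]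
    [Group.IsSolvable H] [AddCommGroup W] [Finite W] [DistribMulAction H W]
    (hW : ∀ w : W, p • w = 0) (hirr : Irred H W)
    (hfaith : ∀ g : H, (∀ w : W, g • w = w) → g = 1) {m : ℕ} (hm : Nat.card W = p ^ m) :
    Nat.card H ≤ kc H * 9 ^ (m - 1) :=
  kbound_aux _ H W rfl hW hirr hfaith m hm

end Cfsg.Agent.H38.KSolv
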