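import Mathlib
import Cfsg.Agent.H38.KSolv.Main

/-!
# Orbits and classes of a solvable group in dimension two
-/

set_option autoImplicit false
set_option linter.unusedSectionVars false
set_option linter.style.haveILetI false

namespace Cfsg.Agent.H38.KSolv

open Cfsg.Agent.H10.BaseThree Cfsg.Agent.H88.ClassBound

open scoped Classical

universe u v

theorem sq_arith {p r h k A B : ℕ} (hp : 11 ≤ p) (hr : p ^ 2 ≤ r * h + 1) (hh : h * A ≤ B * k)
    (hAB : 2422 * B ≤ 14400 * A) (hA : 0 < A := by norm_num) : 49 * p ≤ 60 * (r + k) := by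
  have hp2 : 121 ≤ p ^ 2 := by nlinarith
  have h1 : (p ^ 2 - 1) * A ≤ B * (r * k) := by
    have : (p ^ 2 - 1) * A ≤ r * h * A := Nat.mul_le_mul_right _ (by omega)
    calc (p ^ 2 - 1) * A ≤ r * h * A := this
      _ = r * (h * A) := by ring
      _ ≤ r * (B * k) := Nat.mul_le_mul_left _ hh
      _ = B * (r * k) := by ring
  have h2 : 4 * (r * k) ≤ (r + k) ^ 2 := by nlinarith [four_mul_le_sq_add (r : ℤ) (k : ℤ)]
  have h4 : 2401 * p ^ 2 ≤ 2422 * (p ^ 2 - 1) := by omega
  refine (Nat.pow_le_pow_iff_left two_ne_zero).1 (Nat.le_of_mul_le_mul_left ?_ hA)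
  calc A * (49 * p) ^ 2 = A * (2401 * p ^ 2) := by ring
    _ ≤ A * (2422 * (p ^ 2 - 1)) := Nat.mul_le_mul_left _ h4
    _ = 2422 * ((p ^ 2 - 1) * A) := by ring
    _ ≤ 2422 * (B * (r * k)) := Nat.mul_le_mul_left _ h1
    _ = 2422 * B * (r * k) := by ring
    _ ≤ 14400 * A * (r * k) := Nat.mul_le_mul_right _ hAB
    _ = 3600 * A * (4 * (r * k)) := by ring
    _ ≤ 3600 * A * (r + k) ^ 2 := Nat.mul_le_mul_left _ h2
    _ = A * (60 * (r + k)) ^ 2 := by ring

/-- The sharp case: the image modulo scalars has order `24`. -/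
theorem sharp_arith {p r z k : ℕ} (hp : p.Prime) (h11 : 11 ≤ p) (hz : z ∣ p - 1)
    (hr : p ^ 2 ≤ r * (24 * z) + 1) (hk : 4 * z ≤ k) : 49 * p ≤ 60 * (r + k) := by
  obtain ⟨d, hd⟩ := hz
  have hd0 : 0 < d := by
    rcases Nat.eq_zero_or_pos d with rfl | h
    · simp at hd; omega
    · exact h
  rcases Nat.lt_or_ge p 31 with hlt | hge
  · have hzle : z ≤ p - 1 := hd ▸ Nat.le_mul_of_pos_right _ hd0
    have hzd : z ∣ p - 1 := ⟨d, hd⟩
    interval_cases p <;> first
      | (exfalso; revert hp; norm_num; done)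
      | (interval_cases z <;> first | omega | (exfalso; revert hzd; norm_num; done))
  have hq : 98 * d * p + 480 ≤ p * (5 * d ^ 2 + 480) + 5 * d ^ 2 := by
    rcases Nat.lt_or_ge d 10 with h | h
    · interval_cases d <;> omega
    · obtain ⟨j, rfl⟩ : ∃ j, d = 10 + j := ⟨d - 10, by omega⟩
      nlinarith [Nat.zero_le (p * j), Nat.zero_le (p * (j * j)), Nat.zero_le (j * j)]
  obtain ⟨q, rfl⟩ : ∃ q, p = q + 1 := ⟨p - 1, by omega⟩
  rw [Nat.add_sub_cancel] at hd
  have h1 : (q + 2) * d ≤ 24 * r := by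
    refine Nat.le_of_mul_le_mul_left ?_ (show 0 < q by omega)
    calc q * ((q + 2) * d) = (q * (q + 2)) * d := by ring
      _ ≤ r * (24 * z) * d := Nat.mul_le_mul_right _ (by nlinarith)
      _ = 24 * r * (z * d) := by ring
      _ = q * (24 * r) := by rw [← hd]; ring
  have h2 : 4 * q ≤ k * d := by
    calc 4 * q = 4 * z * d := by rw [hd]; ring
      _ ≤ k * d := Nat.mul_le_mul_right _ hk
  refine Nat.le_of_mul_le_mul_left ?_ (show 0 < 2 * d by omega)
  nlinarith

/-- A group of order `24` with a normal subgroup of order `4` has an element of order `4` or `6`. -/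
theorem exists_order_ne {Q : Type*} [Group Q] [Finite Q] (hQ : Nat.card Q = 24) (V : Subgroup Q)
    [V.Normal] (hV : Nat.card V = 4) : ∃ x : Q, x ^ 2 ≠ 1 ∧ orderOf x ≠ 3 := by
  haveI : Fact (Nat.Prime 2) := ⟨Nat.prime_two⟩
  haveI : Fact (Nat.Prime 3) := ⟨Nat.prime_three⟩
  by_contra hc
  push Not at hc
  -- no involution commutes with an element of order three
  have key : ∀ x c : Q, x ^ 2 = 1 → x ≠ 1 → orderOf c = 3 → ¬ Commute x c := by
    intro x c hx hx1 ho hcomm
    have hox : orderOf x = 2 := orderOf_eq_prime hx hx1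
    have h6 : orderOf (x * c) = 6 := by
      rw [hcomm.orderOf_mul_eq_mul_orderOf_of_coprime (by rw [hox, ho]; decide), hox, ho]
    have h2 : (x * c) ^ 2 ≠ 1 := fun h => by
      have := h6 ▸ orderOf_dvd_of_pow_eq_one h
      norm_num at this
    have := hc _ h2
    omega
  obtain ⟨c, hc3⟩ := exists_prime_orderOf_dvd_card' (G := Q) 3 (by rw [hQ]; norm_num)
  let P : Sylow 2 Q := default
  have hPc : Nat.card P = 8 := by
    have h1 := P.card_eq_multiplicity
    rw [hQ, show Nat.factorization 24 2 = 3 from ?_] at h1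
    · exact h1
    · rw [show (24 : ℕ) = 2 ^ 3 * 3 by norm_num, Nat.factorization_mul (by norm_num) (by norm_num),
        Nat.Prime.factorization_pow Nat.prime_two, Nat.Prime.factorization Nat.prime_three]
      simp
  have hP2 : ∀ x ∈ (P : Subgroup Q), x ^ 2 = 1 := by
    intro x hx
    by_contra h2
    have h3 := hc x h2
    have h8 : orderOf x ∣ 8 := hPc ▸ Subgroup.orderOf_dvd_natCard (s := (P : Subgroup Q)) hx
    rw [h3] at h8
    norm_num at h8
  have hPab : ∀ x ∈ (P : Subgroup Q), ∀ y ∈ (P : Subgroup Q), x * y = y * x := by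
    intro x hx y hy
    have hi : ∀ u ∈ (P : Subgroup Q), u⁻¹ = u := fun u hu =>
      inv_eq_of_mul_eq_one_right (by rw [← sq]; exact hP2 u hu)
    calc x * y = (x * y)⁻¹ := (hi _ (mul_mem hx hy)).symm
      _ = y⁻¹ * x⁻¹ := mul_inv_rev x y
      _ = y * x := by rw [hi x hx, hi y hy]
  have hVP : V ≤ P := by
    have hV2 : IsPGroup 2 V := IsPGroup.of_card (n := 2) (by rw [hV]; norm_num)
    exact le_sup_right.trans (P.3 (P.2.to_sup_of_normal_right hV2) le_sup_left).le
  let Z := Subgroup.centralizer (V : Set Q)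
  have hPZ : (P : Subgroup Q) ≤ Z := fun x hx v hv => hPab v (hVP hv) x hx
  haveI : Nontrivial V := Finite.one_lt_card_iff_nontrivial.1 (by rw [hV]; norm_num)
  obtain ⟨⟨v, hv⟩, hv1⟩ := exists_ne (1 : V)
  have hcZ : c ∉ Z := fun h => key v c (hP2 v (hVP hv)) (fun e => hv1 (Subtype.ext e)) hc3 (h v hv)
  have hZP : Z = P := by
    have h1 : 8 ∣ Nat.card Z := hPc ▸ Subgroup.card_dvd_of_le hPZ
    have h2 : Nat.card Z ∣ 24 := hQ ▸ Subgroup.card_subgroup_dvd_card Z
    have h3 : Nat.card Z ≠ 24 := fun h => hcZ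
      (Subgroup.eq_top_of_card_eq Z (h.trans hQ.symm) ▸ Subgroup.mem_top c)
    refine (Subgroup.eq_of_le_of_card_ge hPZ ?_).symm
    rw [hPc]
    obtain ⟨i, hi⟩ := h1
    have hi3 : i ∣ 3 := by
      rw [hi] at h2
      exact Nat.dvd_of_mul_dvd_mul_left (by norm_num : 0 < 8) h2
    rcases (Nat.dvd_prime Nat.prime_three).1 hi3 with rfl | rfl <;> omega
  haveI hPn : (P : Subgroup Q).Normal := hZP ▸ inferInstance
  letI : MulAction (Subgroup.zpowers c) (P : Subgroup Q) :=
    MulAction.compHom _ ((MulAut.conjNormal : Q →* MulAut (P : Subgroup Q)).comp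
      (Subgroup.zpowers c).subtype)
  have hc3' : IsPGroup 3 (Subgroup.zpowers c) :=
    IsPGroup.of_card (n := 1) (by rw [Nat.card_zpowers, hc3]; norm_num)
  have hfix := hc3'.card_modEq_card_fixedPoints (P : Subgroup Q)
  have hsub : MulAction.fixedPoints (Subgroup.zpowers c) (P : Subgroup Q) ⊆ {1} := by
    intro x hx
    by_contra hx1
    have h1 : (MulAut.conjNormal c x : (P : Subgroup Q)) = x :=
      hx ⟨c, Subgroup.mem_zpowers c⟩
    have h2 : c * (x : Q) * c⁻¹ = x := by
      conv_rhs => rw [← h1]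
      exact (MulAut.conjNormal_apply c x).symm
    exact key x c (hP2 x x.2) (fun e => hx1 (Subtype.ext e)) hc3
      (by rw [Commute, SemiconjBy]; conv_lhs => rw [← h2]
          group)
  have h1 : Nat.card (MulAction.fixedPoints (Subgroup.zpowers c) (P : Subgroup Q)) ≤ 1 := by
    refine (Nat.card_mono (Set.finite_singleton _) hsub).trans ?_
    simp
  have hPc' : Nat.card ↥(P : Subgroup Q) = 8 := hPc
  rw [hPc', Nat.ModEq] at hfix
  omega

variable {C : Type u} {W : Type v} [Group C] [Finite C] [AddCommGroup W] {p : ℕ}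

theorem Layer.two_bound (S : Layer C W p) [hpF : Fact p.Prime] (hp : 11 ≤ p) (han : S.a * S.n = 2)
    {r : ℕ} (hr : p ^ 2 ≤ r * Nat.card C + 1) : 49 * p ≤ 60 * (r + kc C) := by
  haveI := S.hT
  haveI := S.hB
  have hk : kc S.D ≤ S.a * kc C := (kc_subgroup_le S.D).trans (Nat.mul_le_mul_right _ S.hDidx)
  have hTk := S.card_T_le.trans hk
  have hiso := S.iso
  have ha2 : S.a ≤ 2 := han ▸ Nat.le_mul_of_pos_right S.a S.hn
  rcases Nat.lt_or_ge S.e 2 with he1 | he2
  · have he : S.e = 1 := by have := S.he; omega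
    refine sq_arith (A := 1) (B := 4) hp hr ?_ (by norm_num)
    rw [← S.D.card_mul_index, S.card_D, he, hiso.1 he, one_pow, mul_one, mul_one, mul_one]
    calc Nat.card S.T * S.D.index ≤ (S.a * kc C) * S.a := Nat.mul_le_mul hTk S.hDidx
      _ = S.a ^ 2 * kc C := by ring
      _ ≤ 2 ^ 2 * kc C := by gcongr
  have ha : S.a = 1 := by
    have := S.hen
    have := S.ha
    by_contra h
    have : 2 * 2 ≤ S.a * S.n := Nat.mul_le_mul (by omega) (by omega)
    omega
  have hn : S.n = 2 := by rw [ha, one_mul] at han; exact han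
  have he : S.e = 2 := by have := S.hen; omega
  obtain ⟨hcard, hMi⟩ := S.card_quot ha
  obtain ⟨-, hTdvd, hSx, hS2⟩ := S.prime ha
  have hM6 : S.B.index ≤ 6 := hMi ▸ hiso.2.1 he
  haveI := Fintype.ofFinite (ConjClasses (C ⧸ S.T))
  rw [he] at hcard
  set M := S.B.index with hM
  set z := Nat.card S.T with hz
  have hQ : Nat.card (C ⧸ S.T) = 4 * M := by
    have h1 := Subgroup.card_eq_card_quotient_mul_card_subgroup S.T
    rw [hcard, ← hz, mul_comm z] at h1
    exact (Nat.eq_of_mul_eq_mul_right Nat.card_pos h1).symm.trans (by norm_num)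
  rw [ha, one_mul] at hTk
  rcases Nat.lt_or_ge M 2 with h | hM2
  · refine sq_arith (A := 1) (B := 4) hp hr ?_ (by norm_num)
    rw [hcard, mul_one]
    calc z * (2 ^ 2 * M) ≤ kc C * (2 ^ 2 * 1) := Nat.mul_le_mul hTk (Nat.mul_le_mul_left _ (by omega))
      _ = 4 * kc C := by ring
  -- weights on the classes of the quotient
  have hsum : ∀ w : ConjClasses (C ⧸ S.T) → ℕ,
      (∀ q : C ⧸ S.T, w (ConjClasses.mk q) ≤ 2 ∧
        (w (ConjClasses.mk q) = 2 → Nat.Coprime 2 (orderOf q) ∨ q ^ 2 ≠ 1)) →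
      z * ∑ c, w c ≤ 2 * kc C := by
    intro w hw
    choose rep hrep using fun c : ConjClasses (C ⧸ S.T) => ConjClasses.exists_rep c
    choose x hx using fun q : C ⧸ S.T => QuotientGroup.mk'_surjective S.T q
    refine S.weighted ha (fun c => x (rep c)) (fun c d h => ?_) 2 w fun c => ?_
    · rw [hx, hx] at h
      rw [← hrep c, ← hrep d]
      exact ConjClasses.mk_eq_mk_iff_isConj.2 h
    obtain ⟨h2, h2'⟩ := hw (rep c)
    rw [hrep c] at h2 h2'
    have hmem : x (rep c) ^ orderOf (rep c) ∈ S.T := by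
      rw [← QuotientGroup.eq_one_iff, QuotientGroup.mk_pow]
      exact (congrArg (fun y => y ^ orderOf (rep c)) (hx (rep c))).trans (pow_orderOf_eq_one _)
    have hg := hSx _ _ hmem
    rw [hn] at hg
    rcases Nat.lt_or_ge (w c) 2 with hlt | hge
    · calc w c * _ ≤ 1 * 2 := Nat.mul_le_mul (by omega)
            (hg.trans (Nat.le_of_dvd two_pos (Nat.gcd_dvd_left _ _)))
        _ = 2 := one_mul 2
    · have hw2 : w c = 2 := le_antisymm h2 hge
      rcases h2' hw2 with hco | hsq
      · rw [hco] at hg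
        calc w c * _ ≤ 2 * 1 := Nat.mul_le_mul h2 hg
          _ = 2 := mul_one 2
      · have h1 := hS2 hn (x (rep c)) fun hmem' => hsq (by
          rw [← hx (rep c), ← map_pow]
          exact (QuotientGroup.eq_one_iff _).2 hmem')
        calc w c * _ ≤ 2 * 1 := Nat.mul_le_mul h2 h1
          _ = 2 := mul_one 2
  have hne1 : ∀ (q : C ⧸ S.T), ConjClasses.mk q = ConjClasses.mk 1 → q = 1 := fun q h =>
    isConj_one_left.1 (ConjClasses.mk_eq_mk_iff_isConj.1 h)
  have horder : ∀ q q' : C ⧸ S.T, ConjClasses.mk q = ConjClasses.mk q' →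
      orderOf q = orderOf q' := fun q q' h => by
    obtain ⟨c, hc⟩ := isConj_iff.1 (ConjClasses.mk_eq_mk_iff_isConj.1 h)
    rw [← hc]
    exact (MulEquiv.orderOf_eq (MulAut.conj c) q).symm
  -- counting a set of good classes
  have hgood : ∀ s : Finset (ConjClasses (C ⧸ S.T)),
      (∀ q : C ⧸ S.T, ConjClasses.mk q ∈ s → Nat.Coprime 2 (orderOf q) ∨ q ^ 2 ≠ 1) →
      z * (kc (C ⧸ S.T) + s.card) ≤ 2 * kc C := by
    intro s hs
    refine le_trans (le_of_eq ?_) (hsum (fun c => if c ∈ s then 2 else 1) fun q => ⟨by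
      split_ifs <;> omega, fun h => hs q (by by_contra hq; rw [if_neg hq] at h; omega)⟩)
    congr 1
    have : ∀ c, (if c ∈ s then 2 else 1) = 1 + if c ∈ s then 1 else 0 := fun c => by
      split_ifs <;> rfl
    simp only [this, Finset.sum_add_distrib, Finset.sum_const, smul_eq_mul, mul_one,
      Finset.card_univ, Finset.sum_ite_mem, Finset.univ_inter, kc, Nat.card_eq_fintype_card]
  set kQ := kc (C ⧸ S.T) with hkQ
  have hk1 : z * (kQ + 1) ≤ 2 * kc C := by
    have := hgood {ConjClasses.mk 1} fun q hq => by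
      rw [hne1 q (Finset.mem_singleton.1 hq), orderOf_one]; exact Or.inl (Nat.coprime_one_right 2)
    rwa [Finset.card_singleton] at this
  rcases Nat.lt_or_ge kQ 5 with hkQ4 | hkQ5
  · have h12 := card_le_twelve (G := C ⧸ S.T) (by omega)
    have hkQ4' : 4 ≤ kQ := by
      by_contra h
      have := card_le_six (G := C ⧸ S.T) (by rw [hkQ] at h; simp only [kc] at h; omega)
      omega
    refine sq_arith (A := 5) (B := 24) hp hr ?_ (by norm_num)
    rw [hcard]
    calc z * (2 ^ 2 * M) * 5 ≤ z * (2 ^ 2 * 3) * 5 := by gcongr; omega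
      _ = 12 * (z * (4 + 1)) := by ring
      _ ≤ 12 * (2 * kc C) := Nat.mul_le_mul_left _ (le_trans (Nat.mul_le_mul_left _ (by omega)) hk1)
      _ = 24 * kc C := by ring
  rcases Nat.lt_or_ge M 5 with hM4 | hM5
  · refine sq_arith (A := 3) (B := 16) hp hr ?_ (by norm_num)
    rw [hcard]
    calc z * (2 ^ 2 * M) * 3 ≤ z * (2 ^ 2 * 4) * 3 := by gcongr; omega
      _ = 8 * (z * (5 + 1)) := by ring
      _ ≤ 8 * (2 * kc C) := Nat.mul_le_mul_left _ (le_trans (Nat.mul_le_mul_left _ (by omega)) hk1)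
      _ = 16 * kc C := by ring
  have hgood2 : ∀ y : C ⧸ S.T, Nat.Coprime 2 (orderOf y) → y ≠ 1 → ∀ q : C ⧸ S.T,
      ConjClasses.mk q ∈ ({ConjClasses.mk 1, ConjClasses.mk y} : Finset (ConjClasses (C ⧸ S.T))) →
      Nat.Coprime 2 (orderOf q) := by
    intro y hy _ q hq
    rcases Finset.mem_insert.1 hq with h | h
    · rw [hne1 q h, orderOf_one]; exact Nat.coprime_one_right 2
    · rw [horder q y (Finset.mem_singleton.1 h)]; exact hy
  rcases eq_or_ne M 5 with hM5' | hM5'
  · obtain ⟨y, hy⟩ := @exists_prime_orderOf_dvd_card' (C ⧸ S.T) _ _ 5 ⟨by norm_num⟩ (by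
      rw [hQ, hM5']; norm_num)
    have hy1 : y ≠ 1 := fun h => by rw [h, orderOf_one] at hy; omega
    have := hgood {ConjClasses.mk 1, ConjClasses.mk y} fun q hq =>
      Or.inl (hgood2 y (by rw [hy]; norm_num) hy1 q hq)
    rw [Finset.card_pair fun h => hy1 (hne1 y h.symm)] at this
    refine sq_arith (A := 7) (B := 40) hp hr ?_ (by norm_num)
    rw [hcard, hM5']
    calc z * (2 ^ 2 * 5) * 7 = 20 * (z * (5 + 2)) := by ring
      _ ≤ 20 * (2 * kc C) := Nat.mul_le_mul_left _ (le_trans (Nat.mul_le_mul_left _ (by omega)) this)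
      _ = 40 * kc C := by ring
  have hM6' : M = 6 := by omega
  obtain ⟨y, hy⟩ := @exists_prime_orderOf_dvd_card' (C ⧸ S.T) _ _ 3 ⟨Nat.prime_three⟩ (by
    rw [hQ, hM6']; norm_num)
  have hy1 : y ≠ 1 := fun h => by rw [h, orderOf_one] at hy; omega
  let V := S.B.map (QuotientGroup.mk' S.T)
  haveI : V.Normal := S.hB.map _ (QuotientGroup.mk'_surjective S.T)
  have hV : Nat.card V = 4 := by
    have h1 : V.index = 6 := by
      rw [Subgroup.index_map, QuotientGroup.ker_mk', sup_eq_left.2 S.hTB,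
        MonoidHom.range_eq_top.2 (QuotientGroup.mk'_surjective S.T), Subgroup.index_top, mul_one,
        ← hM, hM6']
    have h2 := V.card_mul_index
    rw [hQ, h1, hM6'] at h2
    omega
  obtain ⟨x, hx2, hx3⟩ := exists_order_ne (Q := C ⧸ S.T) (by rw [hQ, hM6']) V hV
  have hxy : ConjClasses.mk x ∉
      ({ConjClasses.mk 1, ConjClasses.mk y} : Finset (ConjClasses (C ⧸ S.T))) := by
    intro h
    rcases Finset.mem_insert.1 h with h | h
    · exact hx2 (by rw [hne1 x h, one_pow])
    · exact hx3 (by rw [horder x y (Finset.mem_singleton.1 h), hy])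
  have := hgood (insert (ConjClasses.mk x) {ConjClasses.mk 1, ConjClasses.mk y}) fun q hq => by
    rcases Finset.mem_insert.1 hq with h | h
    · refine Or.inr fun hq2 => hx2 ?_
      obtain ⟨c, hc⟩ := isConj_iff.1 (ConjClasses.mk_eq_mk_iff_isConj.1 h)
      rw [← hc, conj_pow, hq2]; group
    · exact Or.inl (hgood2 y (by rw [hy]; norm_num) hy1 q h)
  rw [Finset.card_insert_of_notMem hxy, Finset.card_pair fun h => hy1 (hne1 y h.symm)] at this
  refine sharp_arith hpF.out hp hTdvd ?_ ?_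
  · rwa [hcard, hM6', show z * (2 ^ 2 * 6) = 24 * z by ring] at hr
  · have h8 : z * (5 + 3) ≤ z * (kQ + 3) := Nat.mul_le_mul_left _ (by omega)
    simp only [Nat.reduceAdd] at this h8
    omega

/-- Solvable irreducible groups in dimension two. -/
theorem two_bound {p : ℕ} [hpF : Fact p.Prime] {H : Type u} {W : Type v} [Group H] [Finite H]
    [Group.IsSolvable H] [AddCommGroup W] [Finite W] [DistribMulAction H W] (hp : 11 ≤ p)
    (hW : ∀ w : W, p • w = 0) (hirr : Irred H W)
    (hfaith : ∀ g : H, (∀ w : W, g • w = w) → g = 1) (hm : Nat.card W = p ^ 2)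
    {r : ℕ} (hr : p ^ 2 ≤ r * Nat.card H + 1) : 49 * p ≤ 60 * (r + kc H) := by
  obtain ⟨T, hTn, hTc, hTmax⟩ := exists_maximal_abelian_normal H
  haveI := hTn
  by_cases hb : ∃ e ∈ scalars W T, IsBlock H e
  · obtain ⟨e, -, he⟩ := hb
    obtain ⟨t, m1, ht, hm1, htm, hidx, hK⟩ := block_bound hW hirr hfaith
      (fun H' W' _ _ _ _ _ _ _ hW' h1 h2 m hm' => kbound hW' h1 h2 hm') he hm
    obtain rfl : m1 = 1 := by
      have := Nat.mul_le_mul_right m1 ht
      omega
    have ht2 : t = 2 := by omega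
    rw [ht2] at hidx
    haveI := Subgroup.normal_of_index_eq_two hidx
    rw [Subgroup.normalCore_eq_self, Nat.sub_self, Nat.mul_zero, pow_zero, mul_one] at hK
    refine sq_arith (A := 1) (B := 4) hp hr ?_ (by norm_num)
    have h1 := kc_subgroup_le (blockStab H e)
    rw [hidx] at h1
    rw [mul_one, ← (blockStab H e).card_mul_index, hidx]
    omega
  · push Not at hb
    obtain ⟨S⟩ := exists_layer_data hW hirr hfaith hTc hTmax hb
    exact S.two_bound hp (Nat.pow_right_injective hpF.out.two_le (S.card_W.symm.trans hm)) hr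

end Cfsg.Agent.H38.KSolv
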