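import Mathlib
import Cfsg.Agent.H38.KSolv.Two
import Cfsg.Agent.H24.Solv

/-!
# Classes of a solvable group whose order is divisible by a square of a prime
-/

set_option autoImplicit false
set_option linter.unusedSectionVars false
set_option linter.style.haveILetI false

namespace Cfsg.Agent.H38.KSolv

open Cfsg.Agent.H10.BaseThree

open scoped Classical commutatorElement

universe u

theorem seven_arith {H : Type u} [Group H] [Finite H] {o : ℕ} (h : 49 ≤ o * Nat.card H + 1) :
    6 ≤ o + kc H := by
  by_contra hc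
  have hk : 0 < kc H := kc_pos
  have ho : 1 ≤ o := by
    rcases Nat.eq_zero_or_pos o with rfl | h' <;> omega
  have h12 := card_le_twelve (G := H) (by omega)
  have := Nat.mul_le_mul_left o h12
  have h2 : kc H ≤ 1 := by omega
  have h6 := Cfsg.Agent.H88.ClassBound.card_le_six (G := H) (by simp only [kc] at h2; omega)
  have := Nat.mul_le_mul_left o h6
  omega

theorem large_arith {p m o h k : ℕ} (hp : p.Prime) (h11 : 11 ≤ p) (hm : 3 ≤ m)
    (ho : p ^ m ≤ o * h + 1) (hk : h ≤ k * 9 ^ (m - 1)) : 49 * p ≤ 60 * (o + k) := by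
  obtain ⟨j, rfl⟩ : ∃ j, m = j + 3 := ⟨m - 3, by omega⟩
  have h1 : p ^ (j + 3) ≤ o * k * (81 * 9 ^ j) + 1 := by
    refine ho.trans (Nat.add_le_add_right ?_ 1)
    rw [show j + 3 - 1 = 2 + j by omega, pow_add] at hk
    calc o * h ≤ o * (k * (9 ^ 2 * 9 ^ j)) := Nat.mul_le_mul_left _ hk
      _ = o * k * (81 * 9 ^ j) := by ring
  have h9 : 9 ^ j ≤ p ^ j := Nat.pow_le_pow_left (by omega) j
  have h2 : p ^ 3 ≤ 81 * (o * k) + 1 := by
    by_contra hc
    have h3 : 9 ^ j * (81 * (o * k) + 2) ≤ p ^ j * p ^ 3 := Nat.mul_le_mul h9 (by omega)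
    rw [← pow_add] at h3
    have h4 : o * k * (81 * 9 ^ j) = 9 ^ j * (81 * (o * k)) := by ring
    have h5 : 0 < 9 ^ j := pow_pos (by norm_num) j
    rw [Nat.mul_add] at h3
    omega
  have h4 : 4 * (o * k) ≤ (o + k) ^ 2 := by nlinarith [four_mul_le_sq_add (o : ℤ) (k : ℤ)]
  rcases Nat.lt_or_ge p 14 with hlt | hge
  · interval_cases p <;> first | (exfalso; revert hp; norm_num; done) | skip
    · by_contra hc
      have : o + k ≤ 8 := by omega
      have := Nat.pow_le_pow_left this 2
      omega
    · by_contra hc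
      have : o + k ≤ 10 := by omega
      have := Nat.pow_le_pow_left this 2
      omega
  refine (Nat.pow_le_pow_iff_left two_ne_zero).1 (Nat.le_of_mul_le_mul_left ?_ (show 0 < 81 by norm_num))
  have h6 : 81 * 2401 * p ^ 2 ≤ 14400 * (p ^ 3 - 1) := by
    have : 14 * p ^ 2 ≤ p ^ 3 := by
      rw [pow_succ' p 2]; exact Nat.mul_le_mul_right _ hge
    have : 196 ≤ p ^ 2 := by nlinarith
    omega
  calc 81 * (49 * p) ^ 2 = 81 * 2401 * p ^ 2 := by ring
    _ ≤ 14400 * (p ^ 3 - 1) := h6
    _ ≤ 14400 * (81 * (o * k)) := Nat.mul_le_mul_left _ (by omega)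
    _ = 81 * (3600 * (4 * (o * k))) := by ring
    _ ≤ 81 * (3600 * (o + k) ^ 2) := by gcongr
    _ = 81 * (60 * (o + k)) ^ 2 := by ring

/-- Automorphisms of a cyclic group commute. -/
theorem mulAut_comm {A : Type*} [Group A] [IsCyclic A] (f f' : MulAut A) : f * f' = f' * f :=
  (IsCyclic.mulAutMulEquiv A).injective (by rw [map_mul, map_mul, mul_comm])

variable {G : Type u} [Group G] [Finite G] {p : ℕ} [hpF : Fact p.Prime]

/-- A normal subgroup of order `p ^ 2` above one of order `p`, with a quotient of order prime to `p`. -/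
theorem bound_of_rank_two (h7 : 7 ≤ p) (N P : Subgroup G) [N.Normal] [P.Normal] (hNP : N ≤ P)
    (hN : Nat.card N = p) (hP : Nat.card P = p ^ 2) (hidx : ¬ p ∣ P.index) :
    49 * p ≤ 60 * kc G := by
  let C := Subgroup.centralizer (P : Set G)
  have hPc : ∀ a ∈ P, ∀ b ∈ P, a * b = b * a := fun a ha b hb =>
    congrArg Subtype.val (IsPGroup.commutative_of_card_eq_prime_sq hP (⟨a, ha⟩ : P) ⟨b, hb⟩)
  have hPC : P ≤ C := fun a ha b hb => hPc b hb a ha
  obtain ⟨o, ho, hoK⟩ := H88.ClassBound.exists_classes P C hPC fun c hc n hn => (hc n hn).symm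
  have hab : ∀ a b : G ⧸ C, a * b = b * a := by
    intro a b
    induction a using QuotientGroup.induction_on with
    | _ a =>
    induction b using QuotientGroup.induction_on with
    | _ b =>
    refine commutatorElement_eq_one_iff_mul_comm.1 ((map_commutatorElement (QuotientGroup.mk' C) a b).symm.trans ?_)
    set g := ⁅a, b⁆ with hg
    -- automorphisms of a group of order `p` commute
    haveI : IsCyclic N := isCyclic_of_prime_card hN
    have hgN : ∀ n ∈ N, g * n = n * g := by
      intro n hn
      have h := congrArg (fun f : MulAut N => (f ⟨n, hn⟩ : G))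
        (commutatorElement_eq_one_iff_mul_comm.2
          (mulAut_comm (MulAut.conjNormal a : MulAut N) (MulAut.conjNormal b)))
      rw [← map_commutatorElement] at h
      simp only [MulAut.conjNormal_apply, MulAut.one_apply] at h
      calc g * n = g * n * g⁻¹ * g := by group
        _ = n * g := by rw [h]
    let π := QuotientGroup.mk' N
    let L := P.map π
    haveI : L.Normal := Subgroup.Normal.map inferInstance π (QuotientGroup.mk'_surjective N)
    have hL : Nat.card L = p := by
      have h1 := L.card_mul_index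
      have h2 : L.index = P.index := by
        rw [Subgroup.index_map, QuotientGroup.ker_mk', sup_eq_left.2 hNP,
          MonoidHom.range_eq_top.2 (QuotientGroup.mk'_surjective N), Subgroup.index_top, mul_one]
      rw [h2, ← Subgroup.index_eq_card] at h1
      have h3 := N.card_mul_index
      rw [← P.card_mul_index, hP, hN, ← h1] at h3
      have hP0 : 0 < P.index := Nat.pos_of_ne_zero Subgroup.index_ne_zero_of_finite
      refine Nat.eq_of_mul_eq_mul_right hP0 (Nat.eq_of_mul_eq_mul_left hpF.out.pos (h3.trans ?_))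
      ring
    haveI : IsCyclic L := isCyclic_of_prime_card hL
    have hgP : ∀ x ∈ P, g * x * g⁻¹ * x⁻¹ ∈ N := by
      intro x hx
      have h := congrArg (fun f : MulAut L => (f ⟨π x, ⟨x, hx, rfl⟩⟩ : G ⧸ N))
        (commutatorElement_eq_one_iff_mul_comm.2
          (mulAut_comm (MulAut.conjNormal (π a) : MulAut L) (MulAut.conjNormal (π b))))
      rw [← map_commutatorElement, ← map_commutatorElement] at h
      simp only [MulAut.conjNormal_apply, MulAut.one_apply] at h
      rw [← map_inv, ← map_mul, ← map_mul] at h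
      rw [← QuotientGroup.eq_one_iff, QuotientGroup.mk_mul]
      change π (g * x * g⁻¹) * π (x⁻¹) = 1
      rw [h, ← map_mul, mul_inv_cancel, map_one]
    -- so the commutator has order dividing `p` modulo the centraliser
    have hgp : g ^ p ∈ C := by
      intro x hx
      have hn := hgP x hx
      set n := g * x * g⁻¹ * x⁻¹ with hndef
      have hi : ∀ i : ℕ, g ^ i * x * (g ^ i)⁻¹ = n ^ i * x := by
        intro i
        induction i with
        | zero => simp
        | succ i ih =>
          calc g ^ (i + 1) * x * (g ^ (i + 1))⁻¹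
              = g * (g ^ i * x * (g ^ i)⁻¹) * g⁻¹ := by rw [pow_succ']; group
            _ = (g * n ^ i) * x * g⁻¹ := by rw [ih]; group
            _ = (n ^ i * g) * x * g⁻¹ := by rw [hgN _ (pow_mem hn i)]
            _ = n ^ i * (g * x * g⁻¹ * x⁻¹) * x := by group
            _ = n ^ (i + 1) * x := by rw [← hndef, pow_succ]
      have hnp : n ^ p = 1 := by
        have := pow_card_eq_one' (G := N) (x := ⟨n, hn⟩)
        rw [hN] at this
        exact congrArg Subtype.val this
      have h1 := hi p
      rw [hnp, one_mul] at h1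
      calc x * g ^ p = g ^ p * x * (g ^ p)⁻¹ * g ^ p := by rw [h1]
        _ = g ^ p * x := by group
    have hcop : ¬ p ∣ C.index := fun h => hidx (h.trans (Subgroup.index_dvd_of_le hPC))
    have h1 : orderOf (g : G ⧸ C) ∣ p := orderOf_dvd_of_pow_eq_one (by
      rw [← QuotientGroup.mk_pow]; exact (QuotientGroup.eq_one_iff _).2 hgp)
    rcases (Nat.dvd_prime hpF.out).1 h1 with h2 | h2
    · exact orderOf_eq_one_iff.1 h2
    · exact absurd (h2 ▸ orderOf_dvd_natCard (g : G ⧸ C)) (by rwa [← Subgroup.index_eq_card])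
  have hk : kc (G ⧸ C) = Nat.card (G ⧸ C) := kc_of_comm hab
  rw [hP] at ho
  have hr : p ^ 2 ≤ o * Nat.card (G ⧸ C) + 1 := by rw [← Subgroup.index_eq_card]; omega
  have hsum : o + kc (G ⧸ C) ≤ kc G := by simp only [kc]; omega
  refine le_trans ?_ (Nat.mul_le_mul_left 60 hsum)
  rcases Nat.lt_or_ge p 11 with hlt | hge
  · interval_cases p <;> first | (exfalso; revert hpF; norm_num [fact_iff]; done) | skip
    have := seven_arith (H := G ⧸ C) (o := o) hr
    omega
  · exact sq_arith (A := 1) (B := 1) hge hr (by rw [hk, mul_one, one_mul]) (by norm_num)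

/-- A minimal normal subgroup of order at least `p ^ 2`. -/
theorem bound_of_minimal [Group.IsSolvable G] (h7 : 7 ≤ p) (N : Subgroup G) [N.Normal]
    (hN1 : N ≠ ⊥) (hmin : ∀ M : Subgroup G, M.Normal → M ≤ N → M = ⊥ ∨ M = N)
    (hNc : ∀ a ∈ N, ∀ b ∈ N, a * b = b * a) (hNp : ∀ x ∈ N, x ^ p = 1)
    {m : ℕ} (hm2 : 2 ≤ m) (hm : Nat.card N = p ^ m) : 49 * p ≤ 60 * kc G := by
  letI : CommGroup N :=
    { (inferInstance : Group N) with
      mul_comm := fun a b => Subtype.ext (hNc a a.2 b b.2) }
  let cN : G → N → N := fun g x => ⟨g * (x : G) * g⁻¹, (inferInstance : N.Normal).conj_mem x x.2 g⟩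
  let φ : G →* AddMonoid.End (Additive N) :=
    { toFun := fun g =>
        { toFun := fun x => Additive.ofMul (cN g (Additive.toMul x))
          map_zero' := congrArg Additive.ofMul (Subtype.ext (by simp [cN]))
          map_add' := fun x y => congrArg Additive.ofMul
            (Subtype.ext (by simp [cN, mul_assoc])) }
      map_one' := AddMonoidHom.ext fun x =>
        congrArg Additive.ofMul (Subtype.ext (by simp [cN]; rfl))
      map_mul' := fun g h => AddMonoidHom.ext fun x =>
        congrArg Additive.ofMul (Subtype.ext (by simp [cN, mul_assoc]; rfl)) }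
  let C := φ.ker
  haveI hCn : C.Normal := MonoidHom.normal_ker φ
  have hcent : ∀ c ∈ C, ∀ x ∈ N, c * x = x * c := by
    intro c hc x hx
    have h1 := DFunLike.congr_fun (show φ c = 1 from hc) (Additive.ofMul (⟨x, hx⟩ : N))
    have h2 : c * x * c⁻¹ = x := congrArg (fun y => ((Additive.toMul y : N) : G)) h1
    calc c * x = c * x * c⁻¹ * c := by group
      _ = x * c := by rw [h2]
  have hNC : N ≤ C := fun x hx => AddMonoidHom.ext fun y => congrArg Additive.ofMul (Subtype.ext (by
    change x * ((Additive.toMul y : N) : G) * x⁻¹ = ((Additive.toMul y : N) : G)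
    rw [hNc x hx _ (SetLike.coe_mem _), mul_inv_cancel_right]))
  let H := G ⧸ C
  letI : DistribMulAction H (Additive N) :=
    DistribMulAction.compHom (M := AddMonoid.End (Additive N)) (Additive N)
      (QuotientGroup.lift C φ le_rfl)
  haveI : Group.IsSolvable H := solvable_of_surjective (QuotientGroup.mk'_surjective C)
  have hirr : Irred H (Additive N) := by
    haveI : Nontrivial N := (Subgroup.nontrivial_iff_ne_bot N).2 hN1
    refine ⟨inferInstance, fun U hU => ?_⟩
    let M : Subgroup G := (AddSubgroup.toSubgroup' U).map N.subtype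
    have hMn : M.Normal := ⟨by
      rintro _ ⟨x, hx, rfl⟩ g
      exact ⟨cN g x, hU (g : H) (Additive.ofMul x) hx, rfl⟩⟩
    rcases hmin M hMn (Subgroup.map_subtype_le _) with h | h
    · refine Or.inl ((AddSubgroup.eq_bot_iff_forall _).2 fun x hx => ?_)
      have h1 : ((Additive.toMul x : N) : G) ∈ M := ⟨Additive.toMul x, hx, rfl⟩
      rw [h, Subgroup.mem_bot] at h1
      exact congrArg Additive.ofMul (Subtype.ext h1 : Additive.toMul x = 1)
    · refine Or.inr ((AddSubgroup.eq_top_iff' _).2 fun x => ?_)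
      obtain ⟨y, hy, hye⟩ := (show N ≤ M from h.ge) (SetLike.coe_mem (Additive.toMul x))
      rw [show x = Additive.ofMul y from congrArg Additive.ofMul (Subtype.ext hye).symm]
      exact hy
  have hfaith : ∀ g : H, (∀ x : Additive N, g • x = x) → g = 1 := by
    intro g hg
    induction g using QuotientGroup.induction_on with
    | _ g => exact (QuotientGroup.eq_one_iff g).2 (AddMonoidHom.ext hg)
  have hW : ∀ w : Additive N, p • w = 0 := fun w =>
    congrArg Additive.ofMul (Subtype.ext (hNp _ (Additive.toMul w).2) : (Additive.toMul w) ^ p = 1)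
  have hWc : Nat.card (Additive N) = p ^ m := (Nat.card_congr Additive.toMul).trans hm
  obtain ⟨o, ho, hoK⟩ := H88.ClassBound.exists_classes N C hNC hcent
  rw [hm] at ho
  have hr : p ^ m ≤ o * Nat.card H + 1 := by rw [← Subgroup.index_eq_card]; omega
  have hsum : o + kc H ≤ kc G := by
    change o + Nat.card (ConjClasses (G ⧸ C)) ≤ Nat.card (ConjClasses G)
    omega
  refine le_trans ?_ (Nat.mul_le_mul_left 60 hsum)
  rcases Nat.lt_or_ge p 11 with hlt | hge
  · interval_cases p <;> first | (exfalso; revert hpF; norm_num [fact_iff]; done) | skip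
    have h49 : 7 ^ 2 ≤ 7 ^ m := Nat.pow_le_pow_right (by norm_num) hm2
    have := seven_arith (H := H) (o := o) (by omega)
    omega
  rcases eq_or_ne m 2 with rfl | hm3
  · exact two_bound hge hW hirr hfaith hWc hr
  · exact large_arith hpF.out hge (by omega) hr (kbound hW hirr hfaith hWc)

omit [Finite G] in
/-- A `p`-group centralises a normal subgroup of order `p`. -/
theorem centralizes_of_card_prime [Finite G] (N S : Subgroup G) [N.Normal] (hN : Nat.card N = p)
    (hS : IsPGroup p S) : ∀ s ∈ S, ∀ n ∈ N, s * n = n * s := by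
  letI : MulAction S N :=
    MulAction.compHom _ ((MulAut.conjNormal : G →* MulAut N).comp S.subtype)
  have h := hS.card_modEq_card_fixedPoints N
  rw [hN, Nat.ModEq, Nat.mod_self] at h
  haveI : Nonempty (MulAction.fixedPoints S N) :=
    ⟨⟨1, fun s => map_one (MulAut.conjNormal (s : G) : MulAut N)⟩⟩
  have hp : p ≤ Nat.card (MulAction.fixedPoints S N) :=
    Nat.le_of_dvd Nat.card_pos (Nat.dvd_of_mod_eq_zero h.symm)
  have htop : MulAction.fixedPoints S N = Set.univ := by
    refine Set.eq_univ_of_forall fun x => ?_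
    by_contra hx
    have h1 : MulAction.fixedPoints S N ⊆ ({x}ᶜ : Set N) := fun y hy e => hx (e ▸ hy)
    have h2 := Nat.card_mono (Set.toFinite _) h1
    rw [Nat.card_coe_set_eq ({x}ᶜ : Set N), Set.ncard_compl, Set.ncard_singleton, hN] at h2
    have := hpF.out.pos
    omega
  intro s hs n hn
  have h1 : ((MulAut.conjNormal s : MulAut N) ⟨n, hn⟩ : N) = ⟨n, hn⟩ :=
    (htop ▸ Set.mem_univ (⟨n, hn⟩ : N) : (⟨n, hn⟩ : N) ∈ MulAction.fixedPoints S N) ⟨s, hs⟩
  have h2 : s * n * s⁻¹ = n := (MulAut.conjNormal_apply s ⟨n, hn⟩).symm.trans (congrArg Subtype.val h1)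
  calc s * n = s * n * s⁻¹ * s := by group
    _ = n * s := by rw [h2]

/-- Above a minimal normal subgroup of order `p`. -/
theorem exists_rank_two [Group.IsSolvable G] (N : Subgroup G) [N.Normal] (hN : Nat.card N = p)
    (hp2 : p ^ 2 ∣ Nat.card G) (hNq : ¬ p ^ 2 ∣ N.index)
    (hall : ∀ K : Subgroup G, K.Normal → K ≠ ⊥ → p ∣ Nat.card K) :
    ∃ P : Subgroup G, P.Normal ∧ N ≤ P ∧ Nat.card P = p ^ 2 ∧ ¬ p ∣ P.index := by
  have hp := hpF.out
  let C := Subgroup.centralizer (N : Set G)
  let π := QuotientGroup.mk' N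
  haveI : (C.map π).Normal := Subgroup.Normal.map inferInstance π (QuotientGroup.mk'_surjective N)
  have hC : C.map π ≠ ⊥ := by
    intro h
    rw [Subgroup.map_eq_bot_iff, QuotientGroup.ker_mk'] at h
    let S : Sylow p G := default
    have h1 : p ^ 2 ∣ Nat.card S := S.pow_dvd_card_of_pow_dvd_card hp2
    have h2 : (S : Subgroup G) ≤ C := fun s hs n hn =>
      (centralizes_of_card_prime N S hN S.2 s hs n hn).symm
    have h3 := h1.trans (Subgroup.card_dvd_of_le (h2.trans h))
    rw [hN] at h3
    have := Nat.le_of_dvd hp.pos h3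
    nlinarith [hp.two_le]
  obtain ⟨L, hLC, hLn, hL1, hLmin⟩ := H24.exists_minimal_normal (C.map π) inferInstance hC
  haveI := hLn
  haveI : Group.IsSolvable (G ⧸ N) := solvable_of_surjective (QuotientGroup.mk'_surjective N)
  obtain ⟨hLc, r, hr, hLr⟩ := H24.minimal_normal_elementary L hL1 hLmin
  let M := L.comap π
  have hNM : N ≤ M := fun n hn => by
    show π n ∈ L
    rw [show π n = 1 from (QuotientGroup.eq_one_iff n).2 hn]
    exact one_mem L
  have hMC : M ≤ C := by
    intro x hx
    obtain ⟨c, hc, hcx⟩ := hLC hx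
    have h1 : c⁻¹ * x ∈ N := QuotientGroup.eq.1 hcx
    have h2 : c⁻¹ * x ∈ C := fun n hn =>
      centralizes_of_card_prime N N hN (IsPGroup.of_card (n := 1) (by rw [hN, pow_one])) n hn _ h1
    simpa using mul_mem hc h2
  have hMindex : M.index = L.index := L.index_comap_of_surjective (QuotientGroup.mk'_surjective N)
  have hMcard : Nat.card M = p * Nat.card L := by
    refine Nat.eq_of_mul_eq_mul_right (Nat.pos_of_ne_zero (Subgroup.index_ne_zero_of_finite (H := M))) ?_
    rw [M.card_mul_index, hMindex, mul_assoc, L.card_mul_index, ← hN, ← Subgroup.index_eq_card,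
      N.card_mul_index]
  haveI : Fact r.Prime := ⟨hr⟩
  obtain ⟨i, hi⟩ := IsPGroup.iff_card.1
    (show IsPGroup r L from fun x => ⟨1, Subtype.ext (by simpa using hLr x x.2)⟩)
  by_cases hrp : r = p
  · subst hrp
    have h1 : r ^ i ∣ N.index := by
      rw [Subgroup.index_eq_card, ← hi]
      exact Subgroup.card_subgroup_dvd_card L
    have hi1 : i = 1 := by
      rcases Nat.lt_trichotomy i 1 with h | h | h
      · obtain rfl : i = 0 := by omega
        exact absurd (Subgroup.card_eq_one.1 (hi.trans (pow_zero r))) hL1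
      · exact h
      · exact absurd ((pow_dvd_pow r (by omega : 2 ≤ i)).trans h1) hNq
    rw [hi1, pow_one] at hi
    refine ⟨M, inferInstance, hNM, by rw [hMcard, hi, sq], fun hd => hNq ?_⟩
    rw [Subgroup.index_eq_card, ← L.card_mul_index, hi, sq]
    exact mul_dvd_mul_left r (hMindex ▸ hd)
  · exfalso
    have hN' : ∀ x ∈ M, x ^ r ∈ N := fun x hx => by
      rw [← QuotientGroup.eq_one_iff, QuotientGroup.mk_pow]
      exact hLr _ hx
    have hNcard : ∀ n ∈ N, n ^ p = 1 := fun n hn => by
      have := pow_card_eq_one' (G := N) (x := ⟨n, hn⟩)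
      rw [hN] at this
      exact congrArg Subtype.val this
    have hcz : ∀ n ∈ N, ∀ x ∈ M, n * x = x * n := fun n hn x hx => hMC hx n hn
    have hMab : ∀ x ∈ M, ∀ y ∈ M, x * y = y * x := by
      intro x hx y hy
      set c := y * x * y⁻¹ * x⁻¹ with hc
      have hcN : c ∈ N := by
        rw [← QuotientGroup.eq_one_iff]
        simp only [hc, QuotientGroup.mk_mul, QuotientGroup.mk_inv]
        rw [show (y : G ⧸ N) * (x : G ⧸ N) = (x : G ⧸ N) * y from
          congrArg Subtype.val (hLc.is_comm.comm (⟨_, hy⟩ : L) ⟨_, hx⟩)]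
        group
      have h1 : c ^ r = 1 := by
        have e1 : (c * x) ^ r = c ^ r * x ^ r := Commute.mul_pow (hcz c hcN x hx) r
        rw [show c * x = y * x * y⁻¹ by rw [hc]; group, conj_pow,
          ← hcz _ (hN' x hx) y hy, mul_inv_cancel_right] at e1
        exact (mul_right_cancel (e1.symm.trans (one_mul _).symm))
      have h2 := pow_gcd_eq_one.2 ⟨h1, hNcard c hcN⟩
      rw [(Nat.coprime_primes hr hp).2 hrp, pow_one] at h2
      calc x * y = c * x * y := by rw [h2, one_mul]
        _ = y * x := by rw [hc]; group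
    let K : Subgroup G :=
      { carrier := {x | x ∈ M ∧ x ^ r = 1}
        mul_mem' := fun {a b} ha hb => ⟨mul_mem ha.1 hb.1, by
          rw [Commute.mul_pow (hMab a ha.1 b hb.1), ha.2, hb.2, one_mul]⟩
        one_mem' := ⟨one_mem M, one_pow r⟩
        inv_mem' := fun {a} ha => ⟨inv_mem ha.1, by rw [inv_pow, ha.2, inv_one]⟩ }
    have hKn : K.Normal := ⟨fun x hx g =>
      ⟨(inferInstance : M.Normal).conj_mem x hx.1 g, by rw [conj_pow, hx.2]; group⟩⟩
    have hKr : IsPGroup r K := fun x => ⟨1, Subtype.ext (by simpa using x.2.2)⟩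
    have hK1 : K ≠ ⊥ := by
      intro hK
      have hr' : r ∣ Nat.card M := by
        rw [hMcard, hi]
        refine Dvd.dvd.mul_left (dvd_pow_self r fun h0 => ?_) p
        subst h0
        exact hL1 (Subgroup.card_eq_one.1 (hi.trans (pow_zero r)))
      obtain ⟨x, hx⟩ := exists_prime_orderOf_dvd_card' (G := M) r hr'
      have : (x : G) ∈ K := ⟨x.2, by
        rw [← Subgroup.coe_pow, ← hx, pow_orderOf_eq_one, Subgroup.coe_one]⟩
      rw [hK, Subgroup.mem_bot] at this
      rw [show x = 1 from Subtype.ext this, orderOf_one] at hx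
      exact hr.ne_one hx.symm
    obtain ⟨j, hj⟩ := IsPGroup.iff_card.1 hKr
    have hd := hall K hKn hK1
    rw [hj] at hd
    exact hrp ((Nat.prime_dvd_prime_iff_eq hp hr).1 (hp.dvd_of_dvd_pow hd)).symm

theorem class_bound_aux : ∀ (n : ℕ) (G : Type u) [Group G] [Finite G], Nat.card G = n →
    Group.IsSolvable G → ∀ q : ℕ, q.Prime → q ^ 2 ∣ Nat.card G → 49 * q ≤ 60 * kc G := by
  intro n
  induction n using Nat.strong_induction_on with
  | _ n ih =>
    intro G _ _ hn hG q hq hdvd
    haveI := hG
    haveI := Fact.mk hq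
    have hle : q ^ 2 ≤ Nat.card G := Nat.le_of_dvd Nat.card_pos hdvd
    haveI : Nontrivial G := Finite.one_lt_card_iff_nontrivial.1 (by
      nlinarith [hq.two_le])
    rcases Nat.lt_or_ge q 7 with h7 | h7
    · have h2 : 2 ≤ kc G := two_le_kc
      rcases Nat.lt_or_ge (kc G) 5 with h | h
      · have h12 := card_le_twelve (G := G) (by omega)
        interval_cases q <;> first | omega | skip
        rcases Nat.lt_or_ge (kc G) 4 with h' | h'
        · have := Cfsg.Agent.H88.ClassBound.card_le_six (G := G) (by simp only [kc] at h'; omega)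
          omega
        · omega
      · omega
    by_cases hind : ∃ N : Subgroup G, N.Normal ∧ N ≠ ⊥ ∧ q ^ 2 ∣ N.index
    · obtain ⟨N, hNn, hN1, hNq⟩ := hind
      haveI := hNn
      have hlt : Nat.card (G ⧸ N) < n := by
        rw [← hn, Subgroup.card_eq_card_quotient_mul_card_subgroup N]
        exact lt_mul_of_one_lt_right Nat.card_pos
          (Subgroup.one_lt_card_iff_ne_bot N |>.2 hN1)
      exact (ih _ hlt (G ⧸ N) rfl (solvable_of_surjective (QuotientGroup.mk'_surjective N)) q hq
        (by rwa [← Subgroup.index_eq_card])).trans (Nat.mul_le_mul_left _ (kc_quotient_le N))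
    push Not at hind
    have hall : ∀ K : Subgroup G, K.Normal → K ≠ ⊥ → q ∣ Nat.card K := by
      intro K hK hK1
      by_contra hc
      refine hind K hK hK1 ?_
      exact ((hq.coprime_iff_not_dvd.2 hc).pow_left 2).dvd_of_dvd_mul_left
        (K.card_mul_index.symm ▸ hdvd)
    obtain ⟨N, -, hNn, hN1, hmin⟩ := H24.exists_minimal_normal (⊤ : Subgroup G) inferInstance top_ne_bot
    haveI := hNn
    obtain ⟨hNc, r, hr, hNr⟩ := H24.minimal_normal_elementary N hN1 hmin
    haveI := Fact.mk hr
    obtain ⟨m, hm⟩ := IsPGroup.iff_card.1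
      (show IsPGroup r N from fun x => ⟨1, Subtype.ext (by simpa using hNr x x.2)⟩)
    have hd := hall N hNn hN1
    rw [hm] at hd
    obtain rfl : q = r := (Nat.prime_dvd_prime_iff_eq hq hr).1 (hq.dvd_of_dvd_pow hd)
    rcases Nat.lt_or_ge m 2 with hm1 | hm2
    · have hm' : m = 1 := by
        rcases Nat.eq_zero_or_pos m with rfl | h
        · exact absurd (Subgroup.card_eq_one.1 (hm.trans (pow_zero q))) hN1
        · omega
      rw [hm', pow_one] at hm
      obtain ⟨P, hPn, hNP, hP, hPi⟩ := exists_rank_two N hm hdvd (hind N hNn hN1) hall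
      haveI := hPn
      exact bound_of_rank_two h7 N P hNP hm hP hPi
    · exact bound_of_minimal h7 N hN1 hmin
        (fun a ha b hb => congrArg Subtype.val (hNc.is_comm.comm (⟨a, ha⟩ : N) ⟨b, hb⟩))
        hNr hm2 hm

theorem class_bound {G : Type u} [Group G] [Finite G] (hG : Group.IsSolvable G) (q : ℕ)
    (hq : q.Prime) (hdvd : q ^ 2 ∣ Nat.card G) : 49 * q ≤ 60 * kc G :=
  class_bound_aux _ G rfl hG q hq hdvd

end Cfsg.Agent.H38.KSolv
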